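import Cfsg.Agent.Janko.OrderLemmas

/-!
# The element orders of the smallest Janko group
-/

set_option autoImplicit false

namespace Cfsg.Lib.Janko

open Cfsg Cfsg.Lib.PermCert

local instance factEleven : Fact (Nat.Prime 11) := ⟨by norm_num⟩

theorem sylow_of_prime {p : ℕ} [Fact p.Prime] (hdvd : p ∣ 175560) (hsq : ¬ p ^ 2 ∣ 175560) :
    (Nat.card J).factorization p = 1 := by
  rw [card_J]
  refine le_antisymm ?_ ((Fact.out : p.Prime).factorization_pos_of_dvd (by norm_num) hdvd)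
  by_contra hlt
  exact hsq ((pow_dvd_pow p (not_le.mp hlt)).trans (Nat.ordProj_dvd _ p))

theorem conj_into_prime {p : ℕ} [Fact p.Prime] (hdvd : p ∣ 175560) (hsq : ¬ p ^ 2 ∣ 175560)
    {a y : J} (ha : orderOf a = p) (hy : orderOf y = p) : ∃ g : J, ∃ k : ℕ, g * y ^ k * g⁻¹ = a := by
  haveI := finite_J
  have hf := sylow_of_prime hdvd hsq
  let S := Sylow.ofCard (p := p) (Subgroup.zpowers y) (by rw [Nat.card_zpowers, hy, hf, pow_one])
  let T := Sylow.ofCard (p := p) (Subgroup.zpowers a) (by rw [Nat.card_zpowers, ha, hf, pow_one])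
  obtain ⟨g, hg⟩ := MulAction.exists_smul_eq J S T
  have hx : a ∈ (T : Subgroup J) := Subgroup.mem_zpowers a
  rw [← hg, Sylow.coe_subgroup_smul] at hx
  obtain ⟨z, hz, he⟩ := hx
  obtain ⟨k, rfl⟩ := mem_powers_iff_mem_zpowers.mpr (show z ∈ Subgroup.zpowers y from hz)
  exact ⟨g, k, by rw [← he]; rfl⟩

/-! ## Generators and an element of order eleven -/

noncomputable def genX : J := ⟨Spor.jankoX, Subgroup.subset_closure (Or.inl rfl)⟩

noncomputable def genY : J := ⟨Spor.jankoY, Subgroup.subset_closure (Or.inr rfl)⟩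

noncomputable def elevenElt : J := genX * genY * genY

theorem mat_one : mat (1 : J) = 1 := rfl

theorem mat_pow (g : J) (n : ℕ) : mat (g ^ n) = mat g ^ n := by
  induction n with
  | zero => rfl
  | succ n ih => rw [pow_succ, mat_mul, ih, pow_succ]

theorem genX_order : orderOf genX = 7 := by
  haveI : Fact (Nat.Prime 7) := ⟨by norm_num⟩
  refine orderOf_eq_prime (mat_inj ?_) fun h => ?_
  · rw [mat_pow]; exact gen_pow.1
  · have : jankoMatrixX = 1 := by rw [← mat_one, ← h]; rfl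
    revert this; decide +kernel

theorem genY_order : orderOf genY = 5 := by
  haveI : Fact (Nat.Prime 5) := ⟨by norm_num⟩
  refine orderOf_eq_prime (mat_inj ?_) fun h => ?_
  · rw [mat_pow]; exact gen_pow.2
  · have : jankoMatrixY = 1 := by rw [← mat_one, ← h]; rfl
    revert this; decide +kernel

def matEleven : M7 := !![9, 4, 8, 0, 3, 8, 8; 10, 3, 6, 10, 7, 0, 2; 10, 0, 10, 6, 7, 2, 3;
  7, 8, 7, 7, 6, 8, 8; 8, 8, 0, 9, 3, 4, 8; 0, 8, 9, 8, 3, 8, 4; 6, 2, 10, 10, 7, 3, 0]

def leftEleven : M7 := !![1, 0, 2, 5, 5, 10, 1; 0, 10, 5, 7, 4, 10, 2; 0, 8, 1, 4, 8, 7, 10;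
  0, 3, 9, 9, 2, 7, 9; 0, 9, 5, 3, 1, 9, 3; 0, 1, 5, 4, 2, 7, 1; 0, 1, 9, 6, 0, 1, 2]

theorem eleven_checks : jankoMatrixX * jankoMatrixY * jankoMatrixY = matEleven ∧ matEleven ^ 11 = 1 ∧
    matEleven ≠ 1 := by decide +kernel

theorem eleven_cyclic : krylov matEleven * leftEleven = 1 := by decide +kernel

theorem seven_cyclic : krylov jankoMatrixX * (krylov jankoMatrixX).transpose = 1 := by decide +kernel

theorem eleven_val : mat elevenElt = matEleven := by
  rw [← eleven_checks.1]; rfl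

theorem eleven_order : orderOf elevenElt = 11 := by
  refine orderOf_eq_prime (mat_inj ?_) fun h => eleven_checks.2.2 ?_
  · rw [mat_pow, eleven_val]; exact eleven_checks.2.1
  · rw [← eleven_val, h]; rfl

theorem center_J : Subgroup.center J = ⊥ := by
  haveI := isJ1.1
  rcases IsSimpleGroup.eq_bot_or_eq_top_of_normal (Subgroup.center J) inferInstance with h | h
  · exact h
  · exfalso
    have hmem : genY ∈ Subgroup.center J := h ▸ Subgroup.mem_top _
    have e := congrArg mat (Subgroup.mem_center_iff.mp hmem genX)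
    rw [mat_mul, mat_mul] at e
    have : jankoMatrixX * jankoMatrixY ≠ jankoMatrixY * jankoMatrixX := by decide +kernel
    exact this e

theorem eq_one_of_scalar {h : J} {c : ZMod 11} (e : mat h = c • (1 : M7)) : h = 1 := by
  have : h ∈ Subgroup.center J := Subgroup.mem_center_iff.mpr fun g => mat_inj (by
    rw [mat_mul, mat_mul, e, smul_mul_assoc, mul_smul_comm, one_mul, mul_one])
  rwa [center_J, Subgroup.mem_bot] at this

/-- Move a commuting pair so that the first element is a given one of the same prime order. -/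
theorem commute_transfer {p : ℕ} [Fact p.Prime] (hdvd : p ∣ 175560) (hsq : ¬ p ^ 2 ∣ 175560)
    {a : J} (ha : orderOf a = p) {z h : J} (hz : orderOf z = p) (hc : Commute z h) :
    ∃ g : J, Commute a (g * h * g⁻¹) := by
  obtain ⟨g, k, hgk⟩ := conj_into_prime hdvd hsq ha hz
  refine ⟨g, ?_⟩
  rw [← hgk]
  exact (Commute.map (hc.pow_left k) (MulAut.conj g))

theorem no_prime_with_eleven {z h : J} (hz : orderOf z = 11) {q : ℕ} (hq : q = 3 ∨ q = 5 ∨ q = 7 ∨ q = 2)
    (hh : h ^ q = 1) (hc : Commute z h) : h = 1 := by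
  obtain ⟨g, hg⟩ := commute_transfer (p := 11) (by norm_num) (by norm_num) eleven_order hz hc
  set k := g * h * g⁻¹
  have hk : k ^ q = 1 := by rw [conj_pow, hh, mul_one, mul_inv_cancel]
  have e := congrArg mat hg.eq
  rw [mat_mul elevenElt k, mat_mul k elevenElt, eleven_val] at e
  obtain ⟨c, hc11⟩ := pow_eleven_scalar eleven_cyclic eleven_checks.2.1 e
  rw [← mat_pow] at hc11
  have h1 : k ^ 11 = 1 := eq_one_of_scalar hc11
  have : k = 1 := by
    have hd : orderOf k ∣ Nat.gcd q 11 :=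
      Nat.dvd_gcd (orderOf_dvd_of_pow_eq_one hk) (orderOf_dvd_of_pow_eq_one h1)
    rw [show Nat.gcd q 11 = 1 by rcases hq with rfl | rfl | rfl | rfl <;> norm_num] at hd
    exact orderOf_eq_one_iff.mp (Nat.dvd_one.mp hd)
  simpa [k] using this

theorem no_three_with_seven {z h : J} (hz : orderOf z = 7) (hh : h ^ 3 = 1) (hc : Commute z h) : h = 1 := by
  haveI : Fact (Nat.Prime 7) := ⟨by norm_num⟩
  obtain ⟨g, hg⟩ := commute_transfer (p := 7) (by norm_num) (by norm_num) genX_order hz hc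
  set k := g * h * g⁻¹
  have hk : k ^ 3 = 1 := by rw [conj_pow, hh, mul_one, mul_inv_cancel]
  have e := congrArg mat hg.eq
  rw [mat_mul genX k, mat_mul k genX] at e
  have h2 := pow_eleven_cubed seven_cyclic gen_pow.1 e
  rw [← mat_pow] at h2
  have h3 : k ^ 1331 = k := mat_inj h2
  have : k = 1 := by
    rw [show 1331 = 3 * 443 + 2 by norm_num, pow_add, pow_mul, hk, one_pow, one_mul] at h3
    rw [sq, mul_eq_left] at h3
    exact h3
  simpa [k] using this

/-! ## No element of order 35 -/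

def eigOne : Fin 7 → ZMod 11 := ![6, 10, 4, 1, 0, 1, 0]

def eigTwo : Fin 7 → ZMod 11 := ![10, 10, 5, 7, 0, 0, 1]

def eigInv : M7 := !![6, 4, 2, 8, 0, 0, 0; 7, 1, 1, 8, 8, 0, 0; 2, 10, 10, 1, 4, 0, 0;
  8, 3, 1, 2, 3, 0, 0; 0, 3, 4, 3, 3, 0, 0; 0, 0, 0, 0, 0, 0, 0; 0, 0, 0, 0, 0, 0, 0]

theorem eig_cert : eigInv * (jankoMatrixY - (3 : ZMod 11) • 1) + Matrix.vecMulVec eigOne (Pi.single 5 1) +
    Matrix.vecMulVec eigTwo (Pi.single 6 1) = 1 := by decide +kernel

theorem eig_vectors : jankoMatrixY.mulVec eigOne = (3 : ZMod 11) • eigOne ∧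
    jankoMatrixY.mulVec eigTwo = (3 : ZMod 11) • eigTwo := by decide +kernel

theorem eig_decomp {v : Fin 7 → ZMod 11} (h : jankoMatrixY.mulVec v = (3 : ZMod 11) • v) :
    v = v 5 • eigOne + v 6 • eigTwo := by
  have e := congrArg (fun A : M7 => A.mulVec v) eig_cert
  simp only [Matrix.add_mulVec, ← Matrix.mulVec_mulVec, Matrix.sub_mulVec, Matrix.smul_mulVec,
    Matrix.one_mulVec, h, sub_self, Matrix.mulVec_zero, zero_add, Matrix.vecMulVec_mulVec,
    single_dotProduct, one_mul] at e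
  simpa [op_smul_eq_smul] using e.symm

theorem shift_fixed {v : Fin 7 → ZMod 11} (h : jankoMatrixX.mulVec v = v) : ∀ i, v i = v 0 := by
  have h1 : ∀ i : Fin 7, (jankoMatrixX.mulVec v) i = v (i + 1) := by
    intro i
    fin_cases i <;> simp [jankoMatrixX, Matrix.mulVec, dotProduct, Fin.sum_univ_seven]
  intro i
  have hs : ∀ i, v (i + 1) = v i := fun i => by rw [← h1, h]
  have a := hs 0; have b := hs 1; have c := hs 2; have d := hs 3; have e := hs 4; have f := hs 5
  fin_cases i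
  · rfl
  · exact a
  · exact b.trans a
  · exact c.trans (b.trans a)
  · exact d.trans (c.trans (b.trans a))
  · exact e.trans (d.trans (c.trans (b.trans a)))
  · exact f.trans (e.trans (d.trans (c.trans (b.trans a))))

theorem no_five_with_seven {z h : J} (hz : orderOf z = 7) (hh : orderOf h = 5) (hc : Commute z h) : False := by
  haveI : Fact (Nat.Prime 5) := ⟨by norm_num⟩
  haveI : Fact (Nat.Prime 7) := ⟨by norm_num⟩
  haveI := finite_J
  obtain ⟨g, hg⟩ := commute_transfer (p := 5) (by norm_num) (by norm_num) genY_order hh hc.symm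
  set w := g * z * g⁻¹ with hw
  have hw7 : orderOf w = 7 := by
    rw [show w = MulAut.conj g z from rfl, MulEquiv.orderOf_eq, hz]
  set A := mat w
  have hA7 : A ^ 7 = 1 := by
    have := pow_orderOf_eq_one w
    rw [hw7] at this
    rw [← mat_pow, this, mat_one]
  have hcA : jankoMatrixY * A = A * jankoMatrixY := by
    have e := congrArg mat hg.eq
    rw [mat_mul genY w, mat_mul w genY] at e
    exact e
  have him : ∀ v, jankoMatrixY.mulVec v = (3 : ZMod 11) • v →
      jankoMatrixY.mulVec (A.mulVec v) = (3 : ZMod 11) • A.mulVec v := fun v hv => by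
    rw [Matrix.mulVec_mulVec, hcA, ← Matrix.mulVec_mulVec, hv, Matrix.mulVec_smul]
  let B : Matrix (Fin 2) (Fin 2) (ZMod 11) :=
    !![A.mulVec eigOne 5, A.mulVec eigTwo 5; A.mulVec eigOne 6, A.mulVec eigTwo 6]
  have hu : ∀ i : Fin 2, A.mulVec (![eigOne, eigTwo] i) = B 0 i • eigOne + B 1 i • eigTwo := by
    intro i
    fin_cases i
    · exact eig_decomp (him _ eig_vectors.1)
    · exact eig_decomp (him _ eig_vectors.2)
  have hcoord : ∀ a b : ZMod 11, (a • eigOne + b • eigTwo) 5 = a ∧ (a • eigOne + b • eigTwo) 6 = b :=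
    fun a b => by simp [eigOne, eigTwo]
  have hpow : ∀ (n : ℕ) (i : Fin 2), (A ^ n).mulVec (![eigOne, eigTwo] i) =
      (B ^ n) 0 i • eigOne + (B ^ n) 1 i • eigTwo := by
    intro n
    induction n with
    | zero => intro i; fin_cases i <;> simp
    | succ n ih =>
      intro i
      rw [pow_succ', ← Matrix.mulVec_mulVec, ih, Matrix.mulVec_add, Matrix.mulVec_smul, Matrix.mulVec_smul]
      rw [show A.mulVec eigOne = _ from hu 0, show A.mulVec eigTwo = _ from hu 1, pow_succ', Matrix.mul_apply,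
        Matrix.mul_apply, Fin.sum_univ_two, Fin.sum_univ_two]
      module
  have hB7 : B ^ 7 = 1 := by
    have h0 := hpow 7 0
    have h1 := hpow 7 1
    rw [hA7, Matrix.one_mulVec] at h0 h1
    have a0 := congrFun h0 5; have a1 := congrFun h0 6
    have b0 := congrFun h1 5; have b1 := congrFun h1 6
    rw [(hcoord _ _).1] at a0 b0; rw [(hcoord _ _).2] at a1 b1
    simp [eigOne, eigTwo] at a0 a1 b0 b1
    ext i j : 1
    fin_cases i <;> fin_cases j <;> simp [← a0, ← a1, ← b0, ← b1]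
  have hB : B = 1 := by
    let u : GL (Fin 2) (ZMod 11) := ⟨B, B ^ 6, by rw [← pow_succ', hB7], by rw [← pow_succ, hB7]⟩
    have h7 : u ^ 7 = 1 := Units.ext (by rw [Units.val_pow_eq_pow_val]; exact hB7)
    have hcard : Nat.card (GL (Fin 2) (ZMod 11)) = 13200 := by
      rw [Matrix.card_GL_field]; simp [Fin.prod_univ_two, ZMod.card]
    have hd : orderOf u ∣ Nat.gcd 7 13200 :=
      Nat.dvd_gcd (orderOf_dvd_of_pow_eq_one h7) (hcard ▸ orderOf_dvd_natCard u)
    have : u = 1 := orderOf_eq_one_iff.mp (Nat.dvd_one.mp (by simpa using hd))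
    exact congrArg Units.val this
  have hfix : A.mulVec eigOne = eigOne ∧ A.mulVec eigTwo = eigTwo := by
    constructor
    · simpa [hB] using hu 0
    · simpa [hB] using hu 1
  obtain ⟨d, k, hdk⟩ := conj_into_prime (p := 7) (by norm_num) (by norm_num) genX_order hw7
  have hX : ∀ v, A.mulVec v = v → ∀ i, (mat d).mulVec v i = (mat d).mulVec v 0 := by
    intro v hv
    apply shift_fixed
    have hvk : ∀ n : ℕ, (A ^ n).mulVec v = v := by
      intro n
      induction n with
      | zero => simp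
      | succ n ih => rw [pow_succ, ← Matrix.mulVec_mulVec, hv, ih]
    have e : mat genX * mat d = mat d * A ^ k := by
      rw [← mat_pow, ← mat_mul, ← mat_mul, ← hdk, inv_mul_cancel_right]
    change (mat genX).mulVec ((mat d).mulVec v) = _
    rw [Matrix.mulVec_mulVec, e, ← Matrix.mulVec_mulVec, hvk]
  set a := (mat d).mulVec eigOne 0
  set b := (mat d).mulVec eigTwo 0
  have hzero : (mat d).mulVec (b • eigOne - a • eigTwo) = 0 := by
    ext i
    rw [Matrix.mulVec_sub, Matrix.mulVec_smul, Matrix.mulVec_smul, Pi.sub_apply, Pi.smul_apply,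
      Pi.smul_apply, hX _ hfix.1 i, hX _ hfix.2 i, Pi.zero_apply, smul_eq_mul, smul_eq_mul]
    ring
  have hinj : ∀ v, (mat d).mulVec v = 0 → v = 0 := fun v hv => by
    have := congrArg (mat d⁻¹).mulVec hv
    rwa [Matrix.mulVec_mulVec, ← mat_mul, inv_mul_cancel, mat_one, Matrix.one_mulVec,
      Matrix.mulVec_zero] at this
  have h0 := hinj _ hzero
  have hb : b = 0 := by simpa [eigOne, eigTwo] using congrFun h0 5
  have hd : (mat d).mulVec eigTwo = 0 := by
    ext i; rw [hX _ hfix.2 i]; exact hb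
  have := congrFun (hinj _ hd) 6
  simp [eigTwo] at this

/-! ## The involutions -/

/-- The two witnesses for the fusion of involutions in the centraliser. -/
theorem fusion_checks :
    (mulP (mulP (cosM 185) (stabM 31)) (stabM invIdx) == mulP (centM 3) (mulP (cosM 185) (stabM 31)) &&
    mulP (mulP (cosM 79) (stabM 6)) (stabM invIdx) == mulP (centM 63) (mulP (cosM 79) (stabM 6))) = true := by
  decide +kernel

theorem conj_tJ {i k n : ℕ} (hi : i < 1540) (hk : k < 114) (hn : n < 120)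
    (h : mulP (mulP (cosM i) (stabM k)) (stabM invIdx) = mulP (centM n) (mulP (cosM i) (stabM k))) :
    IsConj tJ (centElt n) := by
  obtain ⟨g, hg⟩ : ∃ g : J, mat g = matP (mulP (cosM i) (stabM k)) :=
    ⟨pairElt (⟨i, hi⟩, ⟨k, hk⟩), by rw [mat, pairElt_val, mulP_spec (cos_facts hi).1 (stab_facts hk).1]⟩
  have hok : okP (mulP (cosM i) (stabM k)) = true := okP_mulP (cos_facts hi).1
  have e : g * tJ = centElt n * g := mat_inj (by
    rw [mat_mul, mat_mul, hg, tJ_val, centElt_val hn, ← mulP_spec hok (stab_facts inv_ok.1).1,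
      ← mulP_spec (okP_centM hn) hok, h])
  exact isConj_iff.mpr ⟨g, by rw [e, mul_inv_cancel_right]⟩

theorem cent_exponent : ∀ p : Multiplicative (ZMod 2) × alternatingGroup (Fin 5),
    p ^ 6 = 1 ∨ p ^ 10 = 1 := by
  decide +kernel

theorem cent_two : ∀ p : Multiplicative (ZMod 2) × alternatingGroup (Fin 5),
    p ^ 8 = 1 → p ^ 2 = 1 := by
  decide +kernel

theorem alt_involution : ∀ a : alternatingGroup (Fin 5), a ^ 2 = 1 →
    a = 1 ∨ ∃ q : alternatingGroup (Fin 5), permIdx (q * a * q⁻¹) = 3 := by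
  decide +kernel

theorem cent_cases {p : Multiplicative (ZMod 2) × alternatingGroup (Fin 5)} (hp : p ^ 2 = 1) :
    p = 1 ∨ p = (Multiplicative.ofAdd (1 : ZMod 2), (1 : alternatingGroup (Fin 5))) ∨
      ∃ q : alternatingGroup (Fin 5), permIdx (q * p.2 * q⁻¹) = 3 := by
  rcases alt_involution p.2 (congrArg Prod.snd hp) with h | h
  · rcases (by decide : ∀ a : ZMod 2, a = 0 ∨ a = 1) (Multiplicative.toAdd p.1) with e | e
    · exact Or.inl (Prod.ext (by rw [← ofAdd_toAdd p.1, e]; rfl) h)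
    · exact Or.inr (Or.inl (Prod.ext (by rw [← ofAdd_toAdd p.1, e]) h))
  · exact Or.inr (Or.inr h)

theorem isConj_of_centHom {p : Multiplicative (ZMod 2) × alternatingGroup (Fin 5)} (hp : p ^ 2 = 1)
    (hne : p ≠ 1) : IsConj tJ ((centHom p : Subgroup.centralizer ({tJ} : Set J)) : J) := by
  have hf := fusion_checks
  simp only [Bool.and_eq_true, beq_iff_eq] at hf
  rcases cent_cases hp with h | h | ⟨q, hq⟩
  · exact absurd h hne
  · subst h
    have e : ((centHom (Multiplicative.ofAdd (1 : ZMod 2), (1 : alternatingGroup (Fin 5))) : Subgroup.centralizer ({tJ} : Set J)) : J) = tJ := by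
      show tJ ^ (1 : ZMod 2).val * altHom 1 = tJ
      rw [altHom.map_one, mul_one]
      exact pow_one tJ
    rw [e]
  · have hconj : IsConj ((centHom p : Subgroup.centralizer ({tJ} : Set J)) : J)
        ((centHom ((1, q) * p * (1, q)⁻¹) : Subgroup.centralizer ({tJ} : Set J)) : J) := by
      simp only [map_mul, map_inv, Subgroup.coe_mul, Subgroup.coe_inv]
      exact isConj_iff.mpr ⟨_, rfl⟩
    refine (IsConj.trans ?_ hconj.symm)
    rw [centHom_val]
    simp only [Prod.fst_mul, Prod.fst_inv, Prod.snd_mul, Prod.snd_inv, one_mul, inv_one, mul_one, hq]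
    rcases (show (Multiplicative.toAdd p.1).val = 0 ∨ (Multiplicative.toAdd p.1).val = 1 by
      have := ZMod.val_lt (Multiplicative.toAdd p.1); omega) with h | h <;> rw [h]
    · exact conj_tJ (by norm_num) (by norm_num) (by norm_num) hf.1
    · exact conj_tJ (by norm_num) (by norm_num) (by norm_num) hf.2

theorem cent_elt {g : J} (hg : Commute g tJ) :
    ∃ p, ((centHom p : Subgroup.centralizer ({tJ} : Set J)) : J) = g := by
  haveI := finite_J
  obtain ⟨e⟩ := centralizer_equiv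
  have hb : Function.Bijective centHom :=
    (Nat.bijective_iff_injective_and_card _).mpr ⟨centHom_injective, (Nat.card_congr e.toEquiv).symm⟩
  obtain ⟨p, hp⟩ := hb.2 ⟨g, Subgroup.mem_centralizer_singleton_iff.mpr hg.eq⟩
  exact ⟨p, congrArg Subtype.val hp⟩

theorem centHom_eq_one {p : Multiplicative (ZMod 2) × alternatingGroup (Fin 5)}
    (h : ((centHom p : Subgroup.centralizer ({tJ} : Set J)) : J) = 1) : p = 1 :=
  centHom_injective (Subtype.ext (by rw [h, map_one]; rfl))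

theorem two_element_facts {g : J} {m : ℕ} (hg : g ^ (2 ^ m) = 1) :
    g ^ 2 = 1 ∧ (g ≠ 1 → IsConj tJ g) := by
  classical
  haveI := finite_J
  haveI : Fact (Nat.Prime 2) := ⟨Nat.prime_two⟩
  have hf : (Nat.card J).factorization 2 = 3 := by
    rw [card_J]
    refine le_antisymm ?_ ((Nat.Prime.pow_dvd_iff_le_factorization Nat.prime_two (by norm_num)).mp (by norm_num))
    by_contra hlt
    exact absurd ((pow_dvd_pow 2 (not_le.mp hlt)).trans (Nat.ordProj_dvd _ 2)) (by norm_num)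
  obtain ⟨e⟩ := centralizer_equiv
  set C := Subgroup.centralizer ({tJ} : Set J)
  have hC : Nat.card C = 120 := by
    rw [Nat.card_congr e.toEquiv, Nat.card_eq_fintype_card]; decide +kernel
  obtain ⟨Q, hQ⟩ := Sylow.exists_subgroup_card_pow_prime (G := C) 2 (n := 3) (by rw [hC]; norm_num)
  let S := Sylow.ofCard (p := 2) (Q.map C.subtype) (by
    rw [Subgroup.card_map_of_injective C.subtype_injective, hQ, hf])
  have hP : IsPGroup 2 (Subgroup.zpowers g) :=
    IsPGroup.of_card (n := _) ((Nat.card_zpowers g).trans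
      ((Nat.dvd_prime_pow Nat.prime_two).mp (orderOf_dvd_of_pow_eq_one hg)).choose_spec.2)
  obtain ⟨T, hT⟩ := hP.exists_le_sylow
  obtain ⟨a, ha⟩ := MulAction.exists_smul_eq J T S
  have hmem : a * g * a⁻¹ ∈ (S : Subgroup J) := by
    rw [← ha, Sylow.coe_subgroup_smul]
    exact ⟨g, hT (Subgroup.mem_zpowers g), rfl⟩
  obtain ⟨x, hx, hxe⟩ := hmem
  have hx8 : x ^ 8 = 1 := by
    have := pow_card_eq_one' (x := (⟨x, hx⟩ : Q))
    rw [hQ] at this
    exact congrArg Subtype.val this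
  obtain ⟨p, hp⟩ := cent_elt (g := (x : J)) (Subgroup.mem_centralizer_singleton_iff.mp x.2)
  have hp' : centHom p = x := Subtype.ext hp
  have hp2 : p ^ 2 = 1 := cent_two p (centHom_injective (by rw [map_pow, hp', hx8, map_one]))
  have hx2 : (x : J) ^ 2 = 1 := by rw [← hp, ← Subgroup.coe_pow, ← map_pow, hp2, map_one]; rfl
  have hgx : (x : J) = a * g * a⁻¹ := hxe
  refine ⟨?_, fun hne => ?_⟩
  · rw [hgx, conj_pow] at hx2
    simpa using hx2
  · have h := isConj_of_centHom hp2 fun h => hne (by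
      rw [h, map_one] at hp
      have : a * g * a⁻¹ = 1 := hgx.symm.trans hp.symm
      simpa using this)
    rw [hp, hgx] at h
    exact h.trans (isConj_iff.mpr ⟨a⁻¹, by group⟩)

theorem even_order {g : J} (hg : 2 ∣ orderOf g) : ¬ 4 ∣ orderOf g ∧ (g ^ 6 = 1 ∨ g ^ 10 = 1) := by
  haveI := finite_J
  have h4 : ¬ 4 ∣ orderOf g := fun h => by
    set n := orderOf g
    have hpos : 0 < n := orderOf_pos g
    have ho : orderOf (g ^ (n / 4)) = 4 := by
      rw [orderOf_pow_of_dvd (by omega) (Nat.div_dvd_of_dvd h), Nat.div_div_self h hpos.ne']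
    have := (two_element_facts (g := g ^ (n / 4)) (m := 2) (by
      have := pow_orderOf_eq_one (g ^ (n / 4))
      rwa [ho] at this)).1
    exact absurd (orderOf_dvd_of_pow_eq_one this) (by rw [ho]; norm_num)
  refine ⟨h4, ?_⟩
  set n := orderOf g
  have hpos : 0 < n := orderOf_pos g
  have ho : orderOf (g ^ (n / 2)) = 2 := by
    rw [orderOf_pow_of_dvd (by omega) (Nat.div_dvd_of_dvd hg), Nat.div_div_self hg hpos.ne']
  obtain ⟨a, ha⟩ := isConj_iff.mp ((two_element_facts (g := g ^ (n / 2)) (m := 1) (by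
    have := pow_orderOf_eq_one (g ^ (n / 2))
    rw [ho] at this
    rwa [pow_one])).2 fun h => by
      rw [h, orderOf_one] at ho; norm_num at ho).symm
  have hc : Commute (a * g * a⁻¹) tJ := by
    rw [← ha, ← conj_pow]
    exact Commute.self_pow _ _
  obtain ⟨p, hp⟩ := cent_elt hc
  rcases cent_exponent p with h | h
  · left
    have : (a * g * a⁻¹) ^ 6 = 1 := by rw [← hp, ← Subgroup.coe_pow, ← map_pow, h, map_one]; rfl
    simpa [conj_pow] using this
  · right
    have : (a * g * a⁻¹) ^ 10 = 1 := by rw [← hp, ← Subgroup.coe_pow, ← map_pow, h, map_one]; rfl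
    simpa [conj_pow] using this

theorem no_pair (g : J) {p q : ℕ} (_hpq : p.Coprime q) (h : p * q ∣ orderOf g) :
    ∃ z w : J, orderOf z = p ∧ orderOf w = q ∧ Commute z w := by
  haveI := finite_J
  have hpos : 0 < orderOf g := orderOf_pos g
  refine ⟨g ^ (orderOf g / p), g ^ (orderOf g / q), ?_, ?_, Commute.pow_pow_self g _ _⟩
  · have hd : p ∣ orderOf g := dvd_trans (dvd_mul_right p q) h
    have hp0 : p ≠ 0 := fun e => hpos.ne' (Nat.eq_zero_of_zero_dvd (e ▸ hd))
    rw [orderOf_pow_of_dvd (Nat.div_pos (Nat.le_of_dvd hpos hd) (Nat.pos_of_ne_zero hp0)).ne'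
      (Nat.div_dvd_of_dvd hd), Nat.div_div_self hd hpos.ne']
  · have hd : q ∣ orderOf g := dvd_trans (dvd_mul_left q p) h
    have hp0 : q ≠ 0 := fun e => hpos.ne' (Nat.eq_zero_of_zero_dvd (e ▸ hd))
    rw [orderOf_pow_of_dvd (Nat.div_pos (Nat.le_of_dvd hpos hd) (Nat.pos_of_ne_zero hp0)).ne'
      (Nat.div_dvd_of_dvd hd), Nat.div_div_self hd hpos.ne']

theorem nineteen_alone {z h : J} (hz : orderOf z = 19) {q : ℕ} (hq : Nat.Coprime q 19) (hh : h ^ q = 1)
    (hc : Commute z h) : h = 1 := by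
  haveI : Fact (Nat.Prime 19) := ⟨by norm_num⟩
  haveI := finite_J
  obtain ⟨g, hg⟩ := commute_transfer (p := 19) (by norm_num) (by norm_num) xJ_order hz hc
  have hd : orderOf (g * h * g⁻¹) ∣ 19 := by
    have := Subgroup.orderOf_dvd_natCard (Subgroup.zpowers xJ) (centralizer_pow hg.symm)
    rwa [Nat.card_zpowers, xJ_order] at this
  have hd' : orderOf (g * h * g⁻¹) ∣ q := orderOf_dvd_of_pow_eq_one (by rw [conj_pow, hh, mul_one, mul_inv_cancel])
  simpa using orderOf_eq_one_iff.mp (Nat.eq_one_of_dvd_coprimes hq hd' hd)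

theorem arith_orders : ∀ a ∈ List.range 4, ∀ b ∈ List.range 2, ∀ c ∈ List.range 2, ∀ d ∈ List.range 2,
    ∀ e ∈ List.range 2, ∀ f ∈ List.range 2,
    (fun n => (2 ∣ n → ¬ 4 ∣ n ∧ (n ∣ 6 ∨ n ∣ 10)) → (11 ∣ n → ¬ 3 ∣ n ∧ ¬ 5 ∣ n ∧ ¬ 7 ∣ n) →
      (7 ∣ n → ¬ 3 ∣ n ∧ ¬ 5 ∣ n) → (19 ∣ n → ¬ 3 ∣ n ∧ ¬ 5 ∣ n ∧ ¬ 7 ∣ n ∧ ¬ 11 ∣ n) →
      n ∈ [1, 2, 3, 5, 6, 7, 10, 11, 15, 19]) (2 ^ a * 3 ^ b * 5 ^ c * 7 ^ d * 11 ^ e * 19 ^ f) := by
  decide +kernel

theorem dvd_175560_form {n : ℕ} (h : n ∣ 175560) : ∃ a < 4, ∃ b < 2, ∃ c < 2, ∃ d < 2, ∃ e < 2, ∃ f < 2,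
    n = 2 ^ a * 3 ^ b * 5 ^ c * 7 ^ d * 11 ^ e * 19 ^ f := by
  have h' : n ∣ 2 ^ 3 * 3 ^ 1 * 5 ^ 1 * 7 ^ 1 * 11 ^ 1 * 19 ^ 1 := by norm_num; exact h
  obtain ⟨x₅, x₆, h1, h6, rfl⟩ := Nat.dvd_mul.mp h'
  obtain ⟨x₄, y₅, h2, h5, rfl⟩ := Nat.dvd_mul.mp h1
  obtain ⟨x₃, y₄, h3, h4, rfl⟩ := Nat.dvd_mul.mp h2
  obtain ⟨x₂, y₃, h7, h8, rfl⟩ := Nat.dvd_mul.mp h3
  obtain ⟨y₁, y₂, h9, h10, rfl⟩ := Nat.dvd_mul.mp h7
  obtain ⟨a, ha, rfl⟩ := (Nat.dvd_prime_pow Nat.prime_two).mp h9
  obtain ⟨b, hb, rfl⟩ := (Nat.dvd_prime_pow Nat.prime_three).mp h10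
  obtain ⟨c, hc, rfl⟩ := (Nat.dvd_prime_pow Nat.prime_five).mp h8
  obtain ⟨d, hd, rfl⟩ := (Nat.dvd_prime_pow (by norm_num : Nat.Prime 7)).mp h4
  obtain ⟨e, he, rfl⟩ := (Nat.dvd_prime_pow (by norm_num : Nat.Prime 11)).mp h5
  obtain ⟨f, hf, rfl⟩ := (Nat.dvd_prime_pow (by norm_num : Nat.Prime 19)).mp h6
  exact ⟨a, by omega, b, by omega, c, by omega, d, by omega, e, by omega, f, by omega, rfl⟩

/-- Every element order of the smallest Janko group. -/
theorem orderOf_mem (g : J) : orderOf g ∈ [1, 2, 3, 5, 6, 7, 10, 11, 15, 19] := by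
  haveI := finite_J
  obtain ⟨a, ha, b, hb, c, hc, d, hd, e, he, f, hf, hn⟩ :=
    dvd_175560_form (n := orderOf g) (card_J ▸ orderOf_dvd_natCard g)
  have key := arith_orders a (List.mem_range.mpr ha) b (List.mem_range.mpr hb) c (List.mem_range.mpr hc)
    d (List.mem_range.mpr hd) e (List.mem_range.mpr he) f (List.mem_range.mpr hf)
  simp only [← hn] at key
  refine key ?_ ?_ ?_ ?_
  · intro h2
    exact ⟨(even_order h2).1, (even_order h2).2.imp orderOf_dvd_of_pow_eq_one orderOf_dvd_of_pow_eq_one⟩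
  · intro h11
    refine ⟨?_, ?_, ?_⟩ <;> intro hq
    all_goals
      obtain ⟨z, w, hz, hw, hzw⟩ := no_pair g (by norm_num : Nat.Coprime 11 _)
        (Nat.Coprime.mul_dvd_of_dvd_of_dvd (by norm_num) h11 hq)
      have := no_prime_with_eleven hz (q := orderOf w) (by rw [hw]; simp) (pow_orderOf_eq_one w) hzw
      rw [this, orderOf_one] at hw
      norm_num at hw
  · intro h7
    refine ⟨?_, ?_⟩ <;> intro hq
    · obtain ⟨z, w, hz, hw, hzw⟩ := no_pair g (by norm_num : Nat.Coprime 7 3)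
        (Nat.Coprime.mul_dvd_of_dvd_of_dvd (by norm_num) h7 hq)
      have := no_three_with_seven hz (by rw [← hw]; exact pow_orderOf_eq_one w) hzw
      rw [this, orderOf_one] at hw
      norm_num at hw
    · obtain ⟨z, w, hz, hw, hzw⟩ := no_pair g (by norm_num : Nat.Coprime 7 5)
        (Nat.Coprime.mul_dvd_of_dvd_of_dvd (by norm_num) h7 hq)
      exact no_five_with_seven hz hw hzw
  · intro h19
    refine ⟨?_, ?_, ?_, ?_⟩ <;> intro hq
    all_goals
      obtain ⟨z, w, hz, hw, hzw⟩ := no_pair g (by norm_num : Nat.Coprime 19 _)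
        (Nat.Coprime.mul_dvd_of_dvd_of_dvd (by norm_num) h19 hq)
      have := nineteen_alone hz (q := orderOf w) (by rw [hw]; norm_num) (pow_orderOf_eq_one w) hzw
      rw [this, orderOf_one] at hw
      norm_num at hw

end Cfsg.Lib.Janko
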