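import Cfsg.Agent.Janko.Orders
import Cfsg.Prelude.Def_KGroupFacts

/-!
# Every automorphism of the smallest Janko group is inner

An automorphism can be normalised on the centraliser of an involution; a fourth element, normalising
a Sylow 2-subgroup, is then moved by at most conjugation with that involution.
-/

set_option autoImplicit false

namespace Cfsg.Lib.Janko

open Cfsg

abbrev CentModel : Type := Multiplicative (ZMod 2) × alternatingGroup (Fin 5)

/-- The model of the centraliser inside the group. -/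
noncomputable def centMap : CentModel →* J :=
  (Subgroup.centralizer ({tJ} : Set J)).subtype.comp centHom

theorem centMap_injective : Function.Injective centMap := Subtype.val_injective.comp centHom_injective

theorem exists_centMap {g : J} (hg : Commute g tJ) : ∃ p, centMap p = g := cent_elt hg

theorem centMap_central : centMap (Multiplicative.ofAdd (1 : ZMod 2), 1) = tJ := by
  show tJ ^ (1 : ZMod 2).val * altHom 1 = tJ
  rw [altHom.map_one, mul_one]
  exact pow_one tJ

theorem centMap_comm (p : CentModel) : Commute (centMap p) tJ :=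
  Subgroup.mem_centralizer_singleton_iff.mp (centHom p).2

def altU : alternatingGroup (Fin 5) := ⟨Equiv.swap 1 2 * Equiv.swap 3 4, Equiv.Perm.mem_alternatingGroup.mpr (by decide +kernel)⟩

def altV : alternatingGroup (Fin 5) := ⟨Equiv.swap 1 3 * Equiv.swap 2 4, Equiv.Perm.mem_alternatingGroup.mpr (by decide +kernel)⟩

def altB : alternatingGroup (Fin 5) :=
  ⟨Equiv.swap 0 1 * Equiv.swap 1 2 * (Equiv.swap 2 3 * Equiv.swap 3 4), Equiv.Perm.mem_alternatingGroup.mpr (by decide +kernel)⟩

theorem alt_indices : permIdx altU = 3 ∧ permIdx altV = 8 ∧ permIdx altB = 16 := by decide +kernel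

theorem centMap_alt (a : alternatingGroup (Fin 5)) : centMap (1, a) = centElt (permIdx a) := by
  show tJ ^ (0 : ZMod 2).val * altHom a = _
  rw [ZMod.val_zero, pow_zero, one_mul]
  rfl

/-- The involution in the derived part. -/
noncomputable def uJ : J := centMap (1, altU)

/-- The second involution. -/
noncomputable def vJ : J := centMap (1, altV)

/-- The element of order five in the centraliser. -/
noncomputable def bJ : J := centMap (1, altB)

/-- The element permuting the Sylow 2-subgroup cyclically. -/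
noncomputable def nJ : J := pairElt (⟨61, by norm_num⟩, ⟨14, by norm_num⟩)

def nP : List ℕ := mulP (cosM 61) (stabM 14)

theorem nP_ok : okP nP = true := okP_mulP (cos_facts (by norm_num : 61 < 1540)).1

theorem val_t : mat tJ = matP (stabM invIdx) ∧ okP (stabM invIdx) = true :=
  ⟨tJ_val, (stab_facts inv_ok.1).1⟩

theorem val_n : mat nJ = matP nP :=
  (pairElt_val _).trans (mulP_spec (cos_facts (by norm_num : 61 < 1540)).1 (stab_facts (by norm_num : 14 < 114)).1).symm

theorem val_u : mat uJ = matP (centM 3) := by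
  rw [uJ, centMap_alt, alt_indices.1, centElt_val (by norm_num)]

theorem val_v : mat vJ = matP (centM 8) := by
  rw [vJ, centMap_alt, alt_indices.2.1, centElt_val (by norm_num)]

theorem val_b : mat bJ = matP (centM 16) := by
  rw [bJ, centMap_alt, alt_indices.2.2, centElt_val (by norm_num)]

/-- Evaluate a word in the four elements on packed matrices. -/
def wordP : List ℕ → List ℕ
  | [] => oneP
  | i :: w => mulP ([stabM invIdx, centM 3, centM 16, nP, centM 8].getD i oneP) (wordP w)

/-- Evaluate a word in the group. -/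
noncomputable def wordJ : List ℕ → J
  | [] => 1
  | i :: w => [tJ, uJ, bJ, nJ, vJ].getD i 1 * wordJ w

theorem letter_spec : ∀ i, mat ([tJ, uJ, bJ, nJ, vJ].getD i 1) =
    matP ([stabM invIdx, centM 3, centM 16, nP, centM 8].getD i oneP) ∧
    okP ([stabM invIdx, centM 3, centM 16, nP, centM 8].getD i oneP) = true
  | 0 => val_t
  | 1 => ⟨val_u, okP_centM (by norm_num)⟩
  | 2 => ⟨val_b, okP_centM (by norm_num)⟩
  | 3 => ⟨val_n, nP_ok⟩
  | 4 => ⟨val_v, okP_centM (by norm_num)⟩
  | _ + 5 => ⟨gen_mat.1.symm, stab_ok.2.2.2.2.2.2.2.1⟩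

theorem wordP_spec : ∀ w, mat (wordJ w) = matP (wordP w) ∧ okP (wordP w) = true
  | [] => ⟨gen_mat.1.symm, stab_ok.2.2.2.2.2.2.2.1⟩
  | i :: w => by
    obtain ⟨h1, h2⟩ := letter_spec i
    obtain ⟨h3, h4⟩ := wordP_spec w
    refine ⟨?_, okP_mulP h2⟩
    show mat (_ * wordJ w) = matP (mulP _ (wordP w))
    rw [mat_mul, h1, h3, mulP_spec h2 h4]

theorem word_eq {w w' : List ℕ} (h : wordP w = wordP w') : wordJ w = wordJ w' :=
  mat_inj (by rw [(wordP_spec w).1, (wordP_spec w').1, h])

theorem word_ne {w w' : List ℕ} (h : wordP w ≠ wordP w') : wordJ w ≠ wordJ w' := fun e =>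
  h (okP_ext (wordP_spec w).2 (wordP_spec w').2 (by rw [← (wordP_spec w).1, ← (wordP_spec w').1, e]))

/-- The seven repetitions of a word. -/
def rep7 (w : List ℕ) : List ℕ := w ++ w ++ w ++ w ++ w ++ w ++ w

theorem word_checks :
    (wordP [3, 0] == wordP [0, 4, 3] && wordP [3, 1] == wordP [0, 1, 4, 3] &&
    wordP [3, 4] == wordP [1, 4, 3] && wordP [3, 0, 1, 4] == wordP [0, 3, 0] &&
    wordP (rep7 [2, 3]) == oneP &&
    !(wordP (rep7 [2, 3, 0]) == oneP) && !(wordP (rep7 [2, 3, 1]) == oneP) &&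
    !(wordP (rep7 [2, 3, 0, 1]) == oneP) && !(wordP (rep7 [2, 3, 4]) == oneP) &&
    !(wordP (rep7 [2, 3, 0, 4]) == oneP) && !(wordP (rep7 [2, 3, 1, 4]) == oneP) &&
    wordP [1, 2, 2, 3, 3, 1, 3, 2, 2, 2, 1] == genP 0 &&
    wordP [3, 3, 3, 3, 1, 3, 3, 2, 2, 3, 1] == genP 1) = true := by
  decide +kernel

theorem n_action : nJ * tJ = tJ * vJ * nJ ∧ nJ * uJ = tJ * uJ * vJ * nJ ∧ nJ * vJ = uJ * vJ * nJ ∧
    nJ * (tJ * uJ * vJ) = tJ * nJ * tJ := by
  have h := word_checks
  simp only [Bool.and_eq_true, beq_iff_eq] at h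
  obtain ⟨⟨⟨⟨⟨⟨⟨⟨⟨⟨⟨⟨h0, h1⟩, h2⟩, h3⟩, -⟩, -⟩, -⟩, -⟩, -⟩, -⟩, -⟩, -⟩, -⟩ := h
  have a := word_eq h0; have b := word_eq h1; have c := word_eq h2; have d := word_eq h3
  simp only [wordJ, List.getD_cons_succ, List.getD_cons_zero, mul_one, ← mul_assoc] at a b c d
  exact ⟨a, b, c, by rw [← mul_assoc, ← mul_assoc]; exact d⟩

theorem genX_word : wordJ [1, 2, 2, 3, 3, 1, 3, 2, 2, 2, 1] = genX ∧
    wordJ [3, 3, 3, 3, 1, 3, 3, 2, 2, 3, 1] = genY := by
  have h := word_checks
  simp only [Bool.and_eq_true, beq_iff_eq] at h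
  exact ⟨mat_inj (by rw [(wordP_spec _).1, h.1.2, gen_mat.2.1]; rfl),
    mat_inj (by rw [(wordP_spec _).1, h.2, gen_mat.2.2]; rfl)⟩

/-- The Sylow 2-subgroup inside the model. -/
def modelV : List CentModel :=
  [1, (Multiplicative.ofAdd (1 : ZMod 2), 1), (1, altU), (Multiplicative.ofAdd (1 : ZMod 2), altU),
   (1, altV), (Multiplicative.ofAdd (1 : ZMod 2), altV), (1, altU * altV),
   (Multiplicative.ofAdd (1 : ZMod 2), altU * altV)]

theorem model_centralizer : ∀ p : CentModel, p * (1, altU) = (1, altU) * p → p * (1, altV) = (1, altV) * p →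
    p ∈ modelV := by
  decide +kernel

theorem commutators : (∃ x y : alternatingGroup (Fin 5), x * y * x⁻¹ * y⁻¹ = altU) ∧
    (∃ x y : alternatingGroup (Fin 5), x * y * x⁻¹ * y⁻¹ = altV) ∧
    (∃ x y : alternatingGroup (Fin 5), x * y * x⁻¹ * y⁻¹ = altB) := by
  decide +kernel

theorem alt_second : ∀ a : alternatingGroup (Fin 5), a ^ 2 = 1 → a * altU = altU * a →
    a = 1 ∨ a = altU ∨ a = altV ∨ a = altU * altV := by
  decide +kernel

theorem alt_third : ∀ b : alternatingGroup (Fin 5), b ^ 5 = 1 → b ≠ 1 → (altU * b) ^ 3 = 1 →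
    (altV * b) ^ 5 = 1 → (altU * altV * b) ^ 2 = 1 → (altU * b * (altV * b)) ^ 5 = 1 →
    (altU * b * (b * altV)) ^ 2 = 1 → (b * b * altU) ^ 5 = 1 → (b * b * altV) ^ 3 = 1 →
    b = altB ∨ b = altU * altB * altU ∨ b = altV * altB * altV ∨
      b = altU * altV * altB * (altU * altV) := by
  decide +kernel

theorem alt_third_rel : altB ^ 5 = 1 ∧ altB ≠ 1 ∧ (altU * altB) ^ 3 = 1 ∧ (altV * altB) ^ 5 = 1 ∧
    (altU * altV * altB) ^ 2 = 1 ∧ (altU * altB * (altV * altB)) ^ 5 = 1 ∧
    (altU * altB * (altB * altV)) ^ 2 = 1 ∧ (altB * altB * altU) ^ 5 = 1 ∧ (altB * altB * altV) ^ 3 = 1 := by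
  decide +kernel

theorem model_relations : (altU ^ 2 = 1 ∧ altV ^ 2 = 1 ∧ altU * altV = altV * altU ∧ altU ≠ 1 ∧ altV ≠ 1 ∧
    altV ≠ altU) := by
  decide +kernel

/-- Conjugations fixing the involution, composed with an automorphism. -/
theorem sigma_cent {σ : MulAut J} (ht : σ tJ = tJ) (a : alternatingGroup (Fin 5))
    (ha : ∃ x y : alternatingGroup (Fin 5), x * y * x⁻¹ * y⁻¹ = a) :
    ∃ a' : alternatingGroup (Fin 5), σ (centMap (1, a)) = centMap (1, a') := by
  have hpres : ∀ p, ∃ q, σ (centMap p) = centMap q := fun p => by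
    have h := congrArg σ (centMap_comm p).eq
    rw [map_mul, map_mul, ht] at h
    obtain ⟨q, hq⟩ := exists_centMap h
    exact ⟨q, hq.symm⟩
  obtain ⟨x, y, rfl⟩ := ha
  obtain ⟨p, hp⟩ := hpres (1, x)
  obtain ⟨q, hq⟩ := hpres (1, y)
  refine ⟨(p * q * p⁻¹ * q⁻¹).2, ?_⟩
  rw [show ((1, x * y * x⁻¹ * y⁻¹) : CentModel) = (1, x) * (1, y) * (1, x)⁻¹ * (1, y)⁻¹ by simp,
    map_mul, map_mul, map_mul, map_mul, map_mul, map_mul, map_inv, map_inv, map_inv, map_inv, hp, hq,
    ← map_inv centMap, ← map_inv centMap, ← map_mul, ← map_mul, ← map_mul]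
  congr 1
  refine Prod.ext ?_ rfl
  simp [mul_comm p.1]

/-- Conjugation composed with an automorphism. -/
noncomputable def adj (g : J) (σ : MulAut J) : MulAut J := MulAut.conj g * σ

theorem adj_apply (g : J) (σ : MulAut J) (x : J) : adj g σ x = g * σ x * g⁻¹ := rfl

theorem adj_mem {g : J} {σ : MulAut J} (h : adj g σ ∈ Inn J) : σ ∈ Inn J := by
  have := Subgroup.mul_mem _ ((Inn J).inv_mem ⟨g, rfl⟩) h
  simpa [adj] using this

theorem conj_cent (p : CentModel) (a : alternatingGroup (Fin 5)) :
    centMap p * centMap (1, a) * (centMap p)⁻¹ = centMap (1, p.2 * a * p.2⁻¹) := by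
  rw [← map_inv, ← map_mul, ← map_mul]
  congr 1
  refine Prod.ext ?_ rfl
  simp

theorem conj_t (p : CentModel) : centMap p * tJ * (centMap p)⁻¹ = tJ := by
  rw [(centMap_comm p).eq, mul_inv_cancel_right]

theorem fix_generators {τ : MulAut J} (a1 : τ tJ = tJ) (a2 : τ uJ = uJ) (a3 : τ vJ = vJ) (a4 : τ bJ = bJ)
    (a5 : τ nJ = nJ) : τ = 1 := by
  have hl : ∀ i, τ ([tJ, uJ, bJ, nJ, vJ].getD i 1) = [tJ, uJ, bJ, nJ, vJ].getD i 1 := by
    intro i
    match i with
    | 0 => exact a1
    | 1 => exact a2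
    | 2 => exact a4
    | 3 => exact a5
    | 4 => exact a3
    | j + 5 => exact map_one τ
  have hw : ∀ w, τ (wordJ w) = wordJ w := by
    intro w
    induction w with
    | nil => exact map_one τ
    | cons i w ih => rw [wordJ, map_mul, ih, hl]
  have hgen : ∀ g ∈ ({genX, genY} : Set J), τ g = g := by
    rintro g (rfl | hg)
    · rw [← genX_word.1, hw]
    · rw [Set.mem_singleton_iff] at hg; rw [hg, ← genX_word.2, hw]
  apply MulEquiv.ext
  intro g
  have htop : Subgroup.closure ({genX, genY} : Set J) = ⊤ := by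
    refine Subgroup.map_injective (Subgroup.subtype_injective _) ?_
    rw [MonoidHom.map_closure, ← MonoidHom.range_eq_map, Subgroup.range_subtype, Set.image_pair]
    rfl
  exact MonoidHom.eqOn_closure (f := τ.toMonoidHom) (g := MonoidHom.id J) hgen (htop ▸ Subgroup.mem_top g)

theorem conj_fix (p : CentModel) : tJ * centMap p * tJ⁻¹ = centMap p := by
  rw [← (centMap_comm p).eq, mul_inv_cancel_right]

theorem commute_quotient {G : Type*} [Group G] {n m w w' : G} (h : m * w = w' * m) (h' : n * w = w' * n) :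
    Commute (n⁻¹ * m) w := by
  have e : w * n⁻¹ = n⁻¹ * w' := by
    rw [eq_inv_mul_iff_mul_eq, ← mul_assoc, h', mul_inv_cancel_right]
  show n⁻¹ * m * w = w * (n⁻¹ * m)
  rw [mul_assoc, h, ← mul_assoc, ← mul_assoc, e]

theorem case_identity {σ : MulAut J} (ht : σ tJ = tJ) (hu : σ uJ = uJ) (hv : σ vJ = vJ) (hb : σ bJ = bJ) :
    σ ∈ Inn J := by
  obtain ⟨e1, e2, e3, e4⟩ := n_action
  have f1 := congrArg σ e1; have f2 := congrArg σ e2; have f3 := congrArg σ e3
  simp only [map_mul, ht, hu, hv] at f1 f2 f3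
  set d := nJ⁻¹ * σ nJ with hd
  have hn : σ nJ = nJ * d := by rw [hd, mul_inv_cancel_left]
  have comm : ∀ w w' : J, σ nJ * w = w' * σ nJ → nJ * w = w' * nJ → Commute d w :=
    fun w w' h h' => commute_quotient h h'
  obtain ⟨p, hp⟩ := exists_centMap (comm _ _ f1 e1)
  have hpu : p * (1, altU) = (1, altU) * p := centMap_injective (by
    rw [map_mul, map_mul, hp]; exact (comm _ _ f2 e2).eq)
  have hpv : p * (1, altV) = (1, altV) * p := centMap_injective (by
    rw [map_mul, map_mul, hp]; exact (comm _ _ f3 e3).eq)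
  have hmem := model_centralizer p hpu hpv
  have h := word_checks
  simp only [Bool.and_eq_true, beq_iff_eq, Bool.not_eq_true', beq_eq_false_iff_ne] at h
  obtain ⟨⟨⟨⟨⟨⟨⟨⟨⟨-, hord⟩, k1⟩, k2⟩, k3⟩, k4⟩, k5⟩, k6⟩, -⟩, -⟩ := h
  have hord' : (bJ * nJ) ^ 7 = 1 := by
    have := word_eq (w := rep7 [2, 3]) (w' := []) hord
    simpa [wordJ, rep7, pow_succ, mul_assoc] using this
  have himg : (bJ * (nJ * d)) ^ 7 = 1 := by
    have := congrArg σ hord'
    rwa [map_pow, map_mul, hb, hn, map_one] at this
  have bad : ∀ w, wordP (rep7 (2 :: 3 :: w)) ≠ oneP → d = wordJ w → False := by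
    intro w hne e
    refine word_ne (w := rep7 (2 :: 3 :: w)) (w' := []) hne ?_
    have happ : ∀ l m : List ℕ, wordJ (l ++ m) = wordJ l * wordJ m := by
      intro l m
      induction l with
      | nil => simp [wordJ]
      | cons i l ih => simp [wordJ, ih, mul_assoc]
    rw [e] at himg
    simpa [rep7, happ, wordJ, pow_succ, mul_assoc] using himg
  simp only [modelV, List.mem_cons, List.not_mem_nil, or_false] at hmem
  have cT : centMap (Multiplicative.ofAdd (1 : ZMod 2), altU) = tJ * uJ ∧
      centMap (Multiplicative.ofAdd (1 : ZMod 2), altV) = tJ * vJ ∧ centMap (1, altU * altV) = uJ * vJ ∧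
      centMap (Multiplicative.ofAdd (1 : ZMod 2), altU * altV) = tJ * uJ * vJ := by
    rw [← centMap_central, uJ, vJ, ← map_mul, ← map_mul, ← map_mul, ← map_mul]
    refine ⟨?_, ?_, ?_, ?_⟩ <;> simp
  rcases hmem with rfl | rfl | rfl | rfl | rfl | rfl | rfl | rfl
  · exact (fix_generators ht hu hv hb (by rw [hn, ← hp, map_one, mul_one]) ▸ one_mem _)
  · exact (bad [0] k1 (by rw [← hp, centMap_central]; simp [wordJ])).elim
  · exact (bad [1] k2 (by rw [← hp]; simp [wordJ, uJ])).elim
  · exact (bad [0, 1] k3 (by rw [← hp, cT.1]; simp [wordJ])).elim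
  · exact (bad [4] k4 (by rw [← hp]; simp [wordJ, vJ])).elim
  · exact (bad [0, 4] k5 (by rw [← hp, cT.2.1]; simp [wordJ])).elim
  · exact (bad [1, 4] k6 (by rw [← hp, cT.2.2.1]; simp [wordJ])).elim
  · have htt : tJ * tJ = 1 := by rw [← sq, ← tJ_order, pow_orderOf_eq_one]
    have htinv : tJ⁻¹ = tJ := inv_eq_of_mul_eq_one_right htt
    refine adj_mem (g := tJ) ((fix_generators (τ := adj tJ σ) ?_ ?_ ?_ ?_ ?_).symm ▸ one_mem _)
    · rw [adj_apply, ht, mul_inv_cancel_right]
    · rw [adj_apply, hu]; exact conj_fix _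
    · rw [adj_apply, hv]; exact conj_fix _
    · rw [adj_apply, hb]; exact conj_fix _
    · rw [adj_apply, hn, ← hp, cT.2.2.2, e4, htinv, ← mul_assoc, ← mul_assoc, htt, one_mul, mul_assoc, htt, mul_one]

/-- `g` moves the first element of the model to the second. -/
def Moves (g : J) (a b : CentModel) : Prop := g * centMap a = centMap b * g

theorem Moves.mul {g : J} {a b a' b' : CentModel} (h : Moves g a b) (h' : Moves g a' b') :
    Moves g (a * a') (b * b') := by
  unfold Moves at *
  rw [map_mul, map_mul, ← mul_assoc, h, mul_assoc, h', ← mul_assoc]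

theorem Moves.comp {g g' : J} {a b c : CentModel} (h : Moves g b c) (h' : Moves g' a b) :
    Moves (g * g') a c := by
  unfold Moves at *
  rw [mul_assoc, h', ← mul_assoc, h, mul_assoc]

theorem Moves.map {g : J} {σ : MulAut J} {a b a' b' : CentModel} (h : Moves g a b)
    (ha : σ (centMap a) = centMap a') (hb : σ (centMap b) = centMap b') : Moves (σ g) a' b' := by
  have := congrArg σ h
  rwa [map_mul, map_mul, ha, hb] at this

theorem Moves.congr {g : J} {a b a' b' : CentModel} (h : Moves g a b) (ha : a = a') (hb : b = b') :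
    Moves g a' b' := ha ▸ hb ▸ h

def modT : CentModel := (Multiplicative.ofAdd (1 : ZMod 2), 1)

def modU : CentModel := (1, altU)

def modW : CentModel := (1, altV)

theorem case_transvection {σ : MulAut J} (ht : σ tJ = tJ) (hu : σ uJ = uJ) (hv : σ vJ = uJ * vJ) : False := by
  obtain ⟨e1, e2, e3, -⟩ := n_action
  have eT : centMap modT = tJ := centMap_central
  have eU : centMap modU = uJ := rfl
  have eW : centMap modW = vJ := rfl
  have n1 : Moves nJ modT (modT * modW) := by unfold Moves; rw [map_mul, eT, eW]; exact e1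
  have n2 : Moves nJ modU (modT * modU * modW) := by
    unfold Moves; rw [map_mul, map_mul, eT, eU, eW]; exact e2
  have n3 : Moves nJ modW (modU * modW) := by unfold Moves; rw [map_mul, eU, eW]; exact e3
  have sT : σ (centMap modT) = centMap modT := by rw [eT, ht]
  have sU : σ (centMap modU) = centMap modU := by rw [eU, hu]
  have sW : σ (centMap modW) = centMap (modU * modW) := by rw [map_mul, eU, eW, hv]
  have m1 : Moves (σ nJ) modT (modT * (modU * modW)) :=
    n1.map sT (by rw [map_mul, map_mul, map_mul, sT, sW])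
  have m2 : Moves (σ nJ) modU (modT * modU * (modU * modW)) :=
    n2.map sU (by rw [map_mul, map_mul, map_mul, map_mul, map_mul, sT, sU, sW, ← map_mul, ← map_mul])
  have m3 : Moves (σ nJ) (modU * modW) (modU * (modU * modW)) :=
    n3.map sW (by rw [map_mul, map_mul, map_mul, sU, sW])
  have y1 : Moves (σ nJ * (nJ * nJ)) modT modU :=
    ((m1.mul m2).congr rfl (by decide +kernel)).comp ((((n1.mul n3).congr rfl (by decide +kernel)).comp n1))
  have y2 : Moves (σ nJ * (nJ * nJ)) modU modT :=
    ((m2.mul m3).congr (a' := modW) (b' := modT) (by decide +kernel) (by decide +kernel)).comp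
      ((((n1.mul n2).mul n3).congr (a' := modT * modU * modW) (b' := modW) rfl (by decide +kernel)).comp n2)
  have y3 : Moves (σ nJ * (nJ * nJ)) modW (modT * modU * modW) :=
    (m1.congr rfl (by decide +kernel)).comp
      (((n2.mul n3).congr rfl (by decide +kernel)).comp n3)
  generalize σ nJ * (nJ * nJ) = y at y1 y2 y3
  have q1 := y2.comp y1
  have q3 : Moves (y * y) modW modW := (((y1.mul y2).mul y3).congr rfl (by decide +kernel)).comp y3
  have hcomm : Commute (y * y) tJ := by
    have h := q1; unfold Moves at h; rwa [eT] at h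
  obtain ⟨p, hp⟩ := exists_centMap hcomm
  have q2 := y1.comp y2
  unfold Moves at q2 q3
  rw [← hp, ← map_mul, ← map_mul] at q2 q3
  have hmem := model_centralizer p (centMap_injective q2) (centMap_injective q3)
  have hsq : ∀ r ∈ modelV, r * r = 1 := by decide +kernel
  have h4 : y ^ (2 ^ 2) = 1 := by
    rw [show y ^ (2 ^ 2) = y * y * (y * y) by simp [pow_succ, mul_assoc], ← hp, ← map_mul, hsq p hmem,
      map_one]
  have hy2 : y * y = 1 := by rw [← sq]; exact (two_element_facts h4).1
  have hyt : y * tJ = uJ * y := by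
    have h := y1; unfold Moves at h; rwa [eT, eU] at h
  have hsquare : (y * tJ) * (y * tJ) = centMap (modU * modT) := by
    calc (y * tJ) * (y * tJ) = uJ * y * (y * tJ) := by rw [hyt]
      _ = uJ * (y * y) * tJ := by simp only [mul_assoc]
      _ = centMap (modU * modT) := by rw [hy2, mul_one, map_mul, eU, eT]
  have hfour : (y * tJ) ^ (2 ^ 2) = 1 := by
    rw [show (y * tJ) ^ (2 ^ 2) = (y * tJ) * (y * tJ) * ((y * tJ) * (y * tJ)) by simp [pow_succ, mul_assoc],
      hsquare, ← map_mul, show modU * modT * (modU * modT) = 1 by decide +kernel, map_one]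
  have := (two_element_facts hfour).1
  rw [sq, hsquare] at this
  exact (show modU * modT ≠ 1 by decide +kernel) (centMap_injective (this.trans (map_one _).symm))

set_option maxRecDepth 10000 in
theorem inner_of_fix_t {σ : MulAut J} (ht : σ tJ = tJ) : σ ∈ Inn J := by
  obtain ⟨⟨cu, cv, cb⟩, hUrel, hBrel⟩ := And.intro commutators (And.intro model_relations alt_third_rel)
  obtain ⟨hU2, hV2, hUV, hU1, hV1, hVU⟩ := hUrel
  obtain ⟨a, ha⟩ := sigma_cent ht altU cu
  have emb : Function.Injective fun x : alternatingGroup (Fin 5) => centMap ((1, x) : CentModel) :=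
    fun x y h => congrArg Prod.snd (centMap_injective h)
  let ι : alternatingGroup (Fin 5) →* J := centMap.comp (MonoidHom.inr _ _)
  have hι : ∀ x, ι x = centMap (1, x) := fun _ => rfl
  have ιinj : Function.Injective ι := emb
  have ha2 : a ^ 2 = 1 := ιinj (by
    rw [map_pow, map_one, hι, ← ha, ← map_pow, ← hι, ← map_pow, hU2, map_one, map_one])
  have ha1 : a ≠ 1 := fun h => hU1 (ιinj (σ.injective (by rw [hι, ha, h, ← hι, map_one, map_one])))
  obtain ⟨q, hq⟩ := (alt_involution a ha2).resolve_left ha1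
  have hqa : q * a * q⁻¹ = altU := permIdx_injective (hq.trans alt_indices.1.symm)
  refine adj_mem (g := centMap (1, q)) ?_
  set σ' := adj (centMap (1, q)) σ with hσ'
  have ht' : σ' tJ = tJ := by rw [hσ', adj_apply, ht, conj_t]
  have hu' : σ' uJ = uJ := by
    rw [hσ', adj_apply]
    show centMap (1, q) * σ (centMap (1, altU)) * (centMap (1, q))⁻¹ = uJ
    rw [ha, conj_cent, hqa]; rfl
  clear_value σ'
  clear hσ' ha
  obtain ⟨a2, ha2'⟩ := sigma_cent ht' altV cv
  have hv2 : a2 ^ 2 = 1 := ιinj (by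
    rw [map_pow, map_one, hι, ← ha2', ← map_pow, ← hι, ← map_pow, hV2, map_one, map_one])
  have hv0 : σ' (ι altV) = ι a2 := ha2'
  have hu0 : σ' (ι altU) = ι altU := hu'
  have hvu : a2 * altU = altU * a2 := ιinj (by
    rw [map_mul, map_mul, ← hv0, ← hu0, ← map_mul, ← map_mul, ← map_mul, ← map_mul, hUV])
  rcases alt_second a2 hv2 hvu with h | h | h | h
  · exact absurd (ιinj (σ'.injective (by rw [hι, ha2', h, ← hι, map_one, map_one]))) hV1
  · exact absurd (ιinj (σ'.injective (by rw [hι, ha2', h]; exact hu'.symm))) hVU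
  · subst h
    obtain ⟨b, hb⟩ := sigma_cent ht' altB cb
    let τ : alternatingGroup (Fin 5) →* J := σ'.toMonoidHom.comp ι
    have τU : τ altU = ι altU := hu'
    have τV : τ altV = ι altV := ha2'
    have τB : τ altB = ι b := hb
    obtain ⟨r1, r2, r3, r4, r5, r6, r7, r8, r9⟩ := hBrel
    have w1 := congrArg τ r1; have w3 := congrArg τ r3; have w4 := congrArg τ r4
    have w5 := congrArg τ r5; have w6 := congrArg τ r6; have w7 := congrArg τ r7
    have w8 := congrArg τ r8; have w9 := congrArg τ r9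
    simp only [map_pow, map_mul, map_one, τU, τV, τB] at w1 w3 w4 w5 w6 w7 w8 w9
    simp only [← map_mul, ← map_pow] at w1 w3 w4 w5 w6 w7 w8 w9
    have z : ∀ {x : alternatingGroup (Fin 5)}, ι x = 1 → x = 1 := fun h => ιinj (h.trans (map_one ι).symm)
    have hb1 : b ≠ 1 := fun h => r2 (ιinj (σ'.injective (show τ altB = σ' (ι 1) by
      rw [τB, h, map_one, map_one])))
    rcases alt_third b (z w1) hb1 (z w3) (z w4) (z w5) (z w6) (z w7) (z w8) (z w9) with h | h | h | h
    · subst h; exact case_identity ht' hu' ha2' hb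
    all_goals (subst h)
    · refine adj_mem (g := centMap (1, altU)) (case_identity ?_ ?_ ?_ ?_)
      · rw [adj_apply, ht', conj_t]
      · rw [adj_apply, hu']; show _ * centMap (1, altU) * _ = _; rw [conj_cent]; exact congrArg ι (by decide +kernel : _ = altU)
      · rw [adj_apply]; show _ * σ' (centMap (1, altV)) * _ = _; rw [ha2', conj_cent]; exact congrArg ι (by decide +kernel : _ = altV)
      · rw [adj_apply]; show _ * σ' (centMap (1, altB)) * _ = _; rw [hb, conj_cent]; exact congrArg ι (by decide +kernel : _ = altB)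
    · refine adj_mem (g := centMap (1, altV)) (case_identity ?_ ?_ ?_ ?_)
      · rw [adj_apply, ht', conj_t]
      · rw [adj_apply, hu']; show _ * centMap (1, altU) * _ = _; rw [conj_cent]; exact congrArg ι (by decide +kernel : _ = altU)
      · rw [adj_apply]; show _ * σ' (centMap (1, altV)) * _ = _; rw [ha2', conj_cent]; exact congrArg ι (by decide +kernel : _ = altV)
      · rw [adj_apply]; show _ * σ' (centMap (1, altB)) * _ = _; rw [hb, conj_cent]; exact congrArg ι (by decide +kernel : _ = altB)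
    · refine adj_mem (g := centMap (1, altU * altV)) (case_identity ?_ ?_ ?_ ?_)
      · rw [adj_apply, ht', conj_t]
      · rw [adj_apply, hu']; show _ * centMap (1, altU) * _ = _; rw [conj_cent]; exact congrArg ι (by decide +kernel : _ = altU)
      · rw [adj_apply]; show _ * σ' (centMap (1, altV)) * _ = _; rw [ha2', conj_cent]; exact congrArg ι (by decide +kernel : _ = altV)
      · rw [adj_apply]; show _ * σ' (centMap (1, altB)) * _ = _; rw [hb, conj_cent]; exact congrArg ι (by decide +kernel : _ = altB)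
  · refine (case_transvection ht' hu' ?_).elim
    rw [h] at ha2'
    rw [vJ, ha2', uJ, ← map_mul, Prod.mk_mul_mk, one_mul]

theorem inner_all (σ : MulAut J) : σ ∈ Inn J := by
  have ho : orderOf (σ tJ) = 2 := by rw [MulEquiv.orderOf_eq, tJ_order]
  have h2 : (σ tJ) ^ (2 ^ 1) = 1 := by rw [pow_one, ← ho, pow_orderOf_eq_one]
  obtain ⟨g, hg⟩ := isConj_iff.mp ((two_element_facts h2).2 fun h => by simp [h] at ho)
  refine adj_mem (g := g⁻¹) (inner_of_fix_t ?_)
  rw [adj_apply, ← hg]; group

theorem out_card : Nat.card (Out J) = 1 := by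
  have : Inn J = ⊤ := (Subgroup.eq_top_iff' _).mpr inner_all
  show (Inn J).index = 1
  rw [this, Subgroup.index_top]

end Cfsg.Lib.Janko
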