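/-!
# The involution centraliser of the smallest Janko group: tables
-/

set_option autoImplicit false

namespace Cfsg.Lib.Janko

/-- The index of the involution in the point stabiliser. -/
def invIdx : Nat := 7

/-- The points fixed by the involution. -/
def invFixed : List Nat := [0, 1, 2, 3, 4, 5, 6, 7, 8, 9, 10, 11, 12, 13, 14, 15, 16, 17, 18, 19]

/-- The even permutations of five letters. -/
def evenPerms : List (List Nat) := [[0, 1, 2, 3, 4], [0, 1, 3, 4, 2], [0, 1, 4, 2, 3], [0, 2, 1, 4, 3],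
  [0, 2, 3, 1, 4], [0, 2, 4, 3, 1], [0, 3, 1, 2, 4], [0, 3, 2, 4, 1],
  [0, 3, 4, 1, 2], [0, 4, 1, 3, 2], [0, 4, 2, 1, 3], [0, 4, 3, 2, 1],
  [1, 0, 2, 4, 3], [1, 0, 3, 2, 4], [1, 0, 4, 3, 2], [1, 2, 0, 3, 4],
  [1, 2, 3, 4, 0], [1, 2, 4, 0, 3], [1, 3, 0, 4, 2], [1, 3, 2, 0, 4],
  [1, 3, 4, 2, 0], [1, 4, 0, 2, 3], [1, 4, 2, 3, 0], [1, 4, 3, 0, 2],
  [2, 0, 1, 3, 4], [2, 0, 3, 4, 1], [2, 0, 4, 1, 3], [2, 1, 0, 4, 3],
  [2, 1, 3, 0, 4], [2, 1, 4, 3, 0], [2, 3, 0, 1, 4], [2, 3, 1, 4, 0],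
  [2, 3, 4, 0, 1], [2, 4, 0, 3, 1], [2, 4, 1, 0, 3], [2, 4, 3, 1, 0],
  [3, 0, 1, 4, 2], [3, 0, 2, 1, 4], [3, 0, 4, 2, 1], [3, 1, 0, 2, 4],
  [3, 1, 2, 4, 0], [3, 1, 4, 0, 2], [3, 2, 0, 4, 1], [3, 2, 1, 0, 4],
  [3, 2, 4, 1, 0], [3, 4, 0, 1, 2], [3, 4, 1, 2, 0], [3, 4, 2, 0, 1],
  [4, 0, 1, 2, 3], [4, 0, 2, 3, 1], [4, 0, 3, 1, 2], [4, 1, 0, 3, 2],
  [4, 1, 2, 0, 3], [4, 1, 3, 2, 0], [4, 2, 0, 1, 3], [4, 2, 1, 3, 0],
  [4, 2, 3, 0, 1], [4, 3, 0, 2, 1], [4, 3, 1, 0, 2], [4, 3, 2, 1, 0]]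

/-- The elements commuting with the involution: first the perfect part, then its translate. -/
def centPairs : List (Nat × Nat) := [(12, 0), (0, 101), (15, 84), (15, 70), (12, 3), (13, 69), (12, 15), (13, 19),
  (0, 14), (0, 52), (15, 20), (13, 4), (9, 43), (8, 82), (11, 90), (8, 26),
  (10, 6), (9, 13), (11, 31), (8, 6), (10, 26), (9, 49), (10, 82), (11, 55),
  (14, 3), (16, 9), (17, 30), (17, 7), (14, 15), (1, 36), (14, 0), (1, 96),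
  (16, 38), (16, 102), (17, 1), (1, 53), (6, 15), (19, 85), (7, 112), (19, 66),
  (4, 81), (6, 0), (7, 59), (19, 18), (4, 28), (6, 3), (4, 67), (7, 16),
  (18, 53), (2, 44), (5, 101), (5, 52), (18, 96), (3, 0), (18, 36), (3, 15),
  (2, 2), (2, 11), (5, 14), (3, 3), (12, 7), (0, 28), (15, 39), (15, 37),
  (12, 30), (13, 9), (12, 1), (13, 102), (0, 67), (0, 81), (15, 51), (13, 38),
  (9, 26), (8, 13), (11, 88), (8, 43), (10, 49), (9, 82), (11, 111), (8, 49),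
  (10, 43), (9, 6), (10, 13), (11, 57), (14, 30), (16, 69), (17, 3), (17, 0),
  (14, 1), (1, 85), (14, 7), (1, 66), (16, 4), (16, 19), (17, 15), (1, 18),
  (6, 1), (19, 36), (7, 32), (19, 96), (4, 52), (6, 7), (7, 109), (19, 53),
  (4, 101), (6, 30), (4, 14), (7, 94), (18, 18), (2, 5), (5, 28), (5, 81),
  (18, 66), (3, 7), (18, 85), (3, 1), (2, 23), (2, 78), (5, 67), (3, 30)]

end Cfsg.Lib.Janko
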