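import Cfsg.Agent.Janko.Check
import Cfsg.Agent.Janko.InvData
import Mathlib.GroupTheory.SpecificGroups.Alternating

/-!
# The involution centraliser of the smallest Janko group: the computations
-/

set_option autoImplicit false

namespace Cfsg.Lib.Janko

open Cfsg Cfsg.Lib.PermCert

/-- The pair at an index. -/
def centPair (n : ℕ) : ℕ × ℕ := centPairs.getD n (0, 0)

/-- The matrix at an index. -/
def centM (n : ℕ) : List ℕ := mulP (cosM (centPair n).1) (stabM (centPair n).2)

/-- Composition of lists of images. -/
def compL (l m : List ℕ) : List ℕ := m.map fun x => l.getD x 0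

/-- The table of elements commuting with the involution. -/
def centOK : Bool :=
  (List.range 120).all fun n =>
    Nat.blt (centPair n).1 1540 && Nat.blt (centPair n).2 114 &&
      (mulP (centM n) (stabM invIdx) == mulP (stabM invIdx) (centM n))

/-- The translate by the involution. -/
def shiftOK : Bool := (List.range 60).all fun a => centM (60 + a) == mulP (stabM invIdx) (centM a)

/-- The multiplication of the perfect part. -/
def tableOK : Bool :=
  (List.range 60).all fun a => (List.range 60).all fun b =>
    (fun c => Nat.blt c 60 && (mulP (centM a) (centM b) == centM c))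
      (evenPerms.idxOf (compL (evenPerms.getD a []) (evenPerms.getD b [])))

/-- The fixed points are all listed. -/
def fixedOK : Bool :=
  (List.range 1540).all fun i =>
    !(mulV (stabM invIdx) (cosE i).2.1.1 == smulV (stabE invIdx).2.1 (cosE i).2.1.1) || invFixed.contains i

/-- The commuting elements over the fixed points are all listed. -/
def searchOK : Bool :=
  invFixed.all fun i => (List.range 114).all fun k =>
    (fun g => !(mulP g (stabM invIdx) == mulP (stabM invIdx) g) || centPairs.contains (i, k))
      (mulP (cosM i) (stabM k))

theorem inv_ok : invIdx < 114 ∧ mulP (stabM invIdx) (stabM invIdx) = oneP ∧ stabM invIdx ≠ oneP ∧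
    centPairs.length = 120 ∧ evenPerms.length = 60 ∧ ((List.range 120).map centM).Nodup ∧
    centOK = true ∧ shiftOK = true := by decide +kernel

theorem table_ok : tableOK = true := by decide +kernel

theorem fixed_ok : fixedOK = true ∧ searchOK = true := by decide +kernel

/-- The images of a permutation. -/
def images (σ : Equiv.Perm (Fin 5)) : List ℕ := List.ofFn fun i => (σ i).val

theorem even_mem : ∀ σ : Equiv.Perm (Fin 5), Equiv.Perm.sign σ = 1 → evenPerms.contains (images σ) = true := by
  decide +kernel

end Cfsg.Lib.Janko
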