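import Cfsg.Agent.Janko.Simple
import Cfsg.Agent.Janko.InvCheck

/-!
# The centraliser of an involution in the smallest Janko group

An element commuting with the chosen involution maps the base line to a line fixed by it; there are
twenty of these, so only twenty cosets of the stabiliser have to be searched.
-/

set_option autoImplicit false

namespace Cfsg.Lib.Janko

open Cfsg Cfsg.Lib.PermCert

theorem okP_mulP {A B : List ℕ} (hA : okP A = true) : okP (mulP A B) = true := by
  have lA : A.length = 7 := by
    simp only [okP, Bool.and_eq_true, beq_iff_eq] at hA; exact hA.1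
  simp only [okP, mulP, List.length_map, lA, Bool.and_eq_true, beq_iff_eq, List.all_eq_true, List.mem_map,
    List.mem_range, true_and]
  rintro x ⟨r, -, rfl⟩
  rw [mulRow, redRow]
  refine ⟨packL_ext 7 _ _ fun j hj => ?_, fun j hj => ?_⟩ <;> rw [ap_packL 7 _ (fun l _ => by omega) j hj]
  exact Nat.ble_eq.mpr (Nat.mod_lt _ (by norm_num))

theorem vecP_packL_ext {f g : ℕ → ℕ} (hf : ∀ j, f j < 11) (hg : ∀ j, g j < 11)
    (h : vecP (packL f 7) = vecP (packL g 7)) : packL f 7 = packL g 7 := by
  refine packL_ext 7 _ _ fun j hj => ?_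
  have := congrFun h ⟨j, hj⟩
  simp only [vecP, ap_packL 7 f (fun l _ => lt_trans (hf l) (by norm_num)) j hj,
    ap_packL 7 g (fun l _ => lt_trans (hg l) (by norm_num)) j hj, ZMod.natCast_eq_natCast_iff'] at this
  rwa [Nat.mod_eq_of_lt (hf j), Nat.mod_eq_of_lt (hg j)] at this

theorem cent_facts {n : ℕ} (hn : n < 120) : (centPair n).1 < 1540 ∧ (centPair n).2 < 114 ∧
    mulP (centM n) (stabM invIdx) = mulP (stabM invIdx) (centM n) := by
  have h := List.all_eq_true.mp inv_ok.2.2.2.2.2.2.1 n (List.mem_range.mpr hn)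
  simp only [Bool.and_eq_true, beq_iff_eq, Nat.blt, Nat.ble_eq] at h
  exact ⟨h.1.1, h.1.2, h.2⟩

/-- The element at an index. -/
noncomputable def centElt (n : ℕ) : J :=
  if h : n < 120 then pairElt (⟨_, (cent_facts h).1⟩, ⟨_, (cent_facts h).2.1⟩) else 1

theorem okP_centM {n : ℕ} (hn : n < 120) : okP (centM n) = true := okP_mulP (cos_facts (cent_facts hn).1).1

theorem centElt_val {n : ℕ} (hn : n < 120) : mat (centElt n) = matP (centM n) := by
  rw [centElt, dif_pos hn, mat, pairElt_val, centM,
    mulP_spec (cos_facts (cent_facts hn).1).1 (stab_facts (cent_facts hn).2.1).1]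

theorem centElt_injective {n m : ℕ} (hn : n < 120) (hm : m < 120) (h : centElt n = centElt m) : n = m :=
  List.inj_on_of_nodup_map inv_ok.2.2.2.2.2.1 (List.mem_range.mpr hn) (List.mem_range.mpr hm)
    (okP_ext (okP_centM hn) (okP_centM hm) (by rw [← centElt_val hn, ← centElt_val hm, h]))

/-- The involution. -/
noncomputable def tJ : J := ⟨(inJ_stab inv_ok.1).choose, (inJ_stab inv_ok.1).choose_spec.1⟩

theorem tJ_val : mat tJ = matP (stabM invIdx) := (inJ_stab inv_ok.1).choose_spec.2

theorem tJ_order : orderOf tJ = 2 := by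
  refine orderOf_eq_prime (mat_inj ?_) fun h => inv_ok.2.2.1 ?_
  · rw [sq, mat_mul, tJ_val, ← mulP_spec (stab_facts inv_ok.1).1 (stab_facts inv_ok.1).1, inv_ok.2.1, gen_mat.1]
    rfl
  · refine okP_ext (stab_facts inv_ok.1).1 stab_ok.2.2.2.2.2.2.2.1 ?_
    rw [← tJ_val, h, gen_mat.1]; rfl

theorem centElt_comm {n : ℕ} (hn : n < 120) : tJ * centElt n = centElt n * tJ := by
  refine mat_inj ?_
  rw [mat_mul, mat_mul, tJ_val, centElt_val hn, ← mulP_spec (stab_facts inv_ok.1).1 (okP_centM hn),
    ← mulP_spec (okP_centM hn) (stab_facts inv_ok.1).1, (cent_facts hn).2.2]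

theorem centElt_shift {a : ℕ} (ha : a < 60) : centElt (60 + a) = tJ * centElt a := by
  refine mat_inj ?_
  rw [centElt_val (by omega), mat_mul, tJ_val, centElt_val (by omega),
    ← mulP_spec (stab_facts inv_ok.1).1 (okP_centM (by omega))]
  exact congrArg matP (beq_iff_eq.mp (List.all_eq_true.mp inv_ok.2.2.2.2.2.2.2 a (List.mem_range.mpr ha)))

theorem centralizer_eq_elt {g : J} (hg : Commute g tJ) : ∃ n < 120, centElt n = g := by
  obtain ⟨i, hi, k, hk, e⟩ := decomp g.2
  have e' : mat g = matP (cosM i) * matP (stabM k) := e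
  have hfix : mulV (stabM invIdx) (cosE i).2.1.1 = smulV (stabE invIdx).2.1 (cosE i).2.1.1 := by
    refine vecP_packL_ext (fun _ => Nat.mod_lt _ (by norm_num)) (fun _ => Nat.mod_lt _ (by norm_num)) ?_
    show vecP (mulV _ _) = vecP (smulV _ _)
    rw [mulV_spec, smulV_spec]
    have h1 : (mat tJ).mulVec ((mat g).mulVec (vecP fixVec)) = (mat g).mulVec ((mat tJ).mulVec (vecP fixVec)) := by
      rw [Matrix.mulVec_mulVec, Matrix.mulVec_mulVec, ← mat_mul, ← mat_mul, hg.eq]
    rw [tJ_val, (stab_facts inv_ok.1).2.2.1, Matrix.mulVec_smul, e', image_point hi hk, Matrix.mulVec_smul,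
      smul_comm] at h1
    exact smul_right_injective (Fin 7 → ZMod 11) (image_coeff hi hk) h1
  have hiF : i ∈ invFixed := by
    have h := List.all_eq_true.mp fixed_ok.1 i (List.mem_range.mpr hi)
    simp only [Bool.or_eq_true, Bool.not_eq_true', beq_eq_false_iff_ne, List.contains_iff_mem] at h
    exact h.resolve_left (not_not.mpr hfix)
  have hok := okP_mulP (B := stabM k) (cos_facts hi).1
  have hcomm : mulP (mulP (cosM i) (stabM k)) (stabM invIdx) = mulP (stabM invIdx) (mulP (cosM i) (stabM k)) := by
    refine okP_ext (okP_mulP hok) (okP_mulP (stab_facts inv_ok.1).1) ?_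
    rw [mulP_spec hok (stab_facts inv_ok.1).1, mulP_spec (stab_facts inv_ok.1).1 hok,
      mulP_spec (cos_facts hi).1 (stab_facts hk).1, ← e', ← tJ_val, ← mat_mul, ← mat_mul, hg.eq]
  have h := List.all_eq_true.mp (List.all_eq_true.mp fixed_ok.2 i hiF) k (List.mem_range.mpr hk)
  simp only [Bool.or_eq_true, Bool.not_eq_true', beq_eq_false_iff_ne, List.contains_iff_mem] at h
  obtain ⟨n, hn, hnk⟩ := List.getElem_of_mem (h.resolve_left (not_not.mpr hcomm))
  have hn' : n < 120 := inv_ok.2.2.2.1 ▸ hn
  refine ⟨n, hn', mat_inj ?_⟩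
  rw [centElt_val hn', centM, centPair, List.getD_eq_getElem _ _ hn, hnk, e',
    mulP_spec (cos_facts hi).1 (stab_facts hk).1]

/-- The index of an even permutation. -/
def permIdx (σ : alternatingGroup (Fin 5)) : ℕ := evenPerms.idxOf (images σ)

theorem permIdx_mem (σ : alternatingGroup (Fin 5)) : images σ ∈ evenPerms :=
  List.contains_iff_mem.mp (even_mem _ (Equiv.Perm.mem_alternatingGroup.mp σ.2))

theorem permIdx_lt (σ : alternatingGroup (Fin 5)) : permIdx σ < 60 :=
  inv_ok.2.2.2.2.1 ▸ List.idxOf_lt_length_iff.mpr (permIdx_mem σ)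

theorem getD_permIdx (σ : alternatingGroup (Fin 5)) : evenPerms.getD (permIdx σ) [] = images σ := by
  rw [permIdx, List.getD_eq_getElem _ _ (List.idxOf_lt_length_iff.mpr (permIdx_mem σ))]
  exact List.getElem_idxOf _

theorem permIdx_injective : Function.Injective permIdx := fun σ τ h => by
  have e : images σ = images τ := by rw [← getD_permIdx, h, getD_permIdx]
  exact Subtype.ext (Equiv.ext fun i => Fin.ext (congrFun (List.ofFn_injective e) i))

theorem compL_images (σ τ : Equiv.Perm (Fin 5)) : compL (images σ) (images τ) = images (σ * τ) := by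
  rw [compL, images, images, List.map_ofFn, images]
  congr 1
  funext i
  show (List.ofFn _).getD _ 0 = _
  rw [List.getD_eq_getElem _ _ (by simp), List.getElem_ofFn]
  rfl

theorem table_mul (σ τ : alternatingGroup (Fin 5)) :
    centElt (permIdx (σ * τ)) = centElt (permIdx σ) * centElt (permIdx τ) := by
  have h := List.all_eq_true.mp (List.all_eq_true.mp table_ok _ (List.mem_range.mpr (permIdx_lt σ))) _
    (List.mem_range.mpr (permIdx_lt τ))
  simp only [Bool.and_eq_true, beq_iff_eq, getD_permIdx, compL_images] at h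
  have hs : permIdx σ < 120 := lt_trans (permIdx_lt σ) (by norm_num)
  have ht : permIdx τ < 120 := lt_trans (permIdx_lt τ) (by norm_num)
  refine mat_inj ?_
  rw [centElt_val (lt_trans (permIdx_lt _) (by norm_num)), mat_mul, centElt_val hs, centElt_val ht,
    ← mulP_spec (okP_centM hs) (okP_centM ht), h.2]
  rfl

/-- The perfect part as a homomorphism. -/
noncomputable def altHom : alternatingGroup (Fin 5) →* J :=
  MonoidHom.mk' (fun σ => centElt (permIdx σ)) table_mul

/-- The map into the centraliser. -/
noncomputable def centHom :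
    Multiplicative (ZMod 2) × alternatingGroup (Fin 5) →* Subgroup.centralizer ({tJ} : Set J) :=
  MonoidHom.mk' (fun p => ⟨tJ ^ (Multiplicative.toAdd p.1).val * altHom p.2,
      Subgroup.mem_centralizer_singleton_iff.mpr (by
        have hc : Commute tJ (altHom p.2) := centElt_comm (lt_trans (permIdx_lt _) (by norm_num))
        exact (((Commute.refl tJ).pow_right _).mul_right hc).eq.symm)⟩)
    (by
      intro p q
      refine Subtype.ext ?_
      show tJ ^ _ * altHom (p.2 * q.2) = tJ ^ _ * altHom p.2 * (tJ ^ _ * altHom q.2)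
      have hc : Commute tJ (altHom p.2) := centElt_comm (lt_trans (permIdx_lt _) (by norm_num))
      rw [map_mul, mul_assoc, ← mul_assoc (altHom p.2), ← (hc.pow_left _).eq, mul_assoc, ← mul_assoc (tJ ^ _) (tJ ^ _),
        ← pow_add]
      congr 1
      rw [Prod.fst_mul, toAdd_mul, ZMod.val_add]
      conv_rhs => rw [← pow_mod_orderOf, tJ_order])

theorem centHom_val (p : Multiplicative (ZMod 2) × alternatingGroup (Fin 5)) :
    ((centHom p : Subgroup.centralizer ({tJ} : Set J)) : J) =
      centElt (60 * (Multiplicative.toAdd p.1).val + permIdx p.2) := by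
  show tJ ^ _ * centElt (permIdx p.2) = _
  rcases (show (Multiplicative.toAdd p.1).val = 0 ∨ (Multiplicative.toAdd p.1).val = 1 by
    have := ZMod.val_lt (Multiplicative.toAdd p.1); omega) with h | h
  · rw [h, pow_zero, one_mul, mul_zero, zero_add]
  · rw [h, pow_one, mul_one, centElt_shift (permIdx_lt _)]

theorem centHom_injective : Function.Injective centHom := by
  intro p q h
  have hp := ZMod.val_lt (Multiplicative.toAdd p.1)
  have hq := ZMod.val_lt (Multiplicative.toAdd q.1)
  have ap := permIdx_lt p.2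
  have aq := permIdx_lt q.2
  have e := centElt_injective (n := 60 * (Multiplicative.toAdd p.1).val + permIdx p.2)
    (m := 60 * (Multiplicative.toAdd q.1).val + permIdx q.2) (by omega) (by omega)
    (by rw [← centHom_val, ← centHom_val, h])
  exact Prod.ext (Multiplicative.toAdd.injective (ZMod.val_injective 2 (by omega))) (permIdx_injective (by omega))

theorem centralizer_equiv :
    Nonempty (Subgroup.centralizer ({tJ} : Set J) ≃* Multiplicative (ZMod 2) × alternatingGroup (Fin 5)) := by
  haveI := finite_J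
  have hsurj : Function.Surjective (fun n : Fin 120 => (⟨centElt n,
      Subgroup.mem_centralizer_singleton_iff.mpr (centElt_comm n.2).symm⟩ : Subgroup.centralizer ({tJ} : Set J))) := by
    intro g
    obtain ⟨n, hn, e⟩ := centralizer_eq_elt (g := (g : J)) (Subgroup.mem_centralizer_singleton_iff.mp g.2)
    exact ⟨⟨n, hn⟩, Subtype.ext e⟩
  have hle : Nat.card (Subgroup.centralizer ({tJ} : Set J)) ≤ 120 :=
    (Nat.card_le_card_of_surjective _ hsurj).trans (by rw [Nat.card_fin])
  have hdom : Nat.card (Multiplicative (ZMod 2) × alternatingGroup (Fin 5)) = 120 := by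
    rw [Nat.card_eq_fintype_card]; decide +kernel
  have hge := Nat.card_le_card_of_injective _ centHom_injective
  exact ⟨(MulEquiv.ofBijective centHom ((Nat.bijective_iff_injective_and_card _).mpr
    ⟨centHom_injective, le_antisymm hge (hle.trans hdom.ge)⟩)).symm⟩

end Cfsg.Lib.Janko
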