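import Cfsg.Agent.Janko.Data
import Cfsg.Agent.PermCert.Basic
import Cfsg.Prelude.Def_Spor_J1

/-!
# The order of the smallest Janko group

The group has an orbit of 1540 lines with stabiliser of order 114: the certificate gives a matrix for
each line, and the images of the cosets under the two generators.
-/

set_option autoImplicit false

namespace Cfsg.Lib.Janko

open Cfsg Cfsg.Lib.PermCert

/-- Matrices over the integers modulo 11. -/
abbrev M7 : Type := Matrix (Fin 7) (Fin 7) (ZMod 11)

/-- Lanes of a number. -/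
def packL (f : ℕ → ℕ) : ℕ → ℕ
  | 0 => 0
  | n + 1 => f 0 + 65536 * packL (fun j => f (j + 1)) n

theorem packL_ext : ∀ (n : ℕ) (f g : ℕ → ℕ), (∀ j < n, f j = g j) → packL f n = packL g n
  | 0, _, _, _ => rfl
  | n + 1, f, g, h => by
    rw [packL, packL, h 0 (by omega), packL_ext n _ _ fun j hj => h (j + 1) (by omega)]

theorem ap_packL : ∀ (n : ℕ) (f : ℕ → ℕ), (∀ j < n, f j < 65536) → ∀ j < n, ap (packL f n) j = f j
  | 0, _, _, j, hj => absurd hj (by omega)
  | n + 1, f, hf, 0, _ => by
    rw [packL, ap, Nat.shiftRight_eq_div_pow]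
    have := hf 0 (by omega)
    simp only [Nat.mul_zero, pow_zero, Nat.div_one]
    omega
  | n + 1, f, hf, j + 1, hj => by
    have h0 := hf 0 (by omega)
    rw [packL, ap, Nat.shiftRight_eq_div_pow, show 2 ^ (16 * (j + 1)) = 65536 * 2 ^ (16 * j) by
      rw [Nat.mul_add, pow_add]; ring, ← Nat.div_div_eq_div_mul,
      show (f 0 + 65536 * packL (fun j => f (j + 1)) n) / 65536 = packL (fun j => f (j + 1)) n by omega,
      ← Nat.shiftRight_eq_div_pow]
    exact ap_packL n (fun j => f (j + 1)) (fun i hi => hf (i + 1) (by omega)) j (by omega)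

theorem packL_linear : ∀ (n : ℕ) (c : ℕ → ℕ) (g : ℕ → ℕ → ℕ) (l : List ℕ),
    (l.map fun k => c k * packL (g k) n).sum = packL (fun j => (l.map fun k => c k * g k j).sum) n
  | 0, c, g, l => by simp [packL]
  | n + 1, c, g, l => by
    rw [packL, ← packL_linear n c (fun k j => g k (j + 1)) l]
    induction l with
    | nil => simp
    | cons a l ih =>
      simp only [List.map_cons, List.sum_cons, packL] at ih ⊢
      rw [ih]
      ring

/-- Reduce each lane. -/
def redRow (s : ℕ) : ℕ := packL (fun j => ap s j % 11) 7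

/-- A row times a matrix. -/
def mulRow (r : ℕ) (B : List ℕ) : ℕ :=
  redRow (((List.range 7).map fun k => ap r k * B.getD k 0).sum)

/-- The product of packed matrices. -/
def mulP (A B : List ℕ) : List ℕ := A.map fun r => mulRow r B

/-- Well formed: seven rows of seven reduced lanes. -/
def okP (A : List ℕ) : Bool :=
  A.length == 7 && A.all fun r => (r == packL (ap r) 7) && (List.range 7).all fun j => Nat.blt (ap r j) 11

/-- The matrix of a packed matrix. -/
def matP (A : List ℕ) : M7 := Matrix.of fun i j => ((ap (A.getD i 0) j : ℕ) : ZMod 11)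

/-- A packed row as a vector. -/
def vecP (r : ℕ) : Fin 7 → ZMod 11 := fun j => ((ap r j : ℕ) : ZMod 11)

theorem okP_row {A : List ℕ} (h : okP A = true) {i : ℕ} (hi : i < 7) :
    A.getD i 0 = packL (ap (A.getD i 0)) 7 ∧ ∀ j < 7, ap (A.getD i 0) j < 11 := by
  simp only [okP, Bool.and_eq_true, beq_iff_eq, List.all_eq_true, List.mem_range, Nat.blt, Nat.ble_eq] at h
  have hl : i < A.length := by omega
  rw [List.getD_eq_getElem _ _ hl]
  obtain ⟨h1, h2⟩ := h.2 _ (List.getElem_mem hl)
  exact ⟨h1, fun j hj => h2 j hj⟩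

theorem okP_ext {A B : List ℕ} (hA : okP A = true) (hB : okP B = true) (h : matP A = matP B) : A = B := by
  have lA : A.length = 7 := by
    simp only [okP, Bool.and_eq_true, beq_iff_eq] at hA; exact hA.1
  have lB : B.length = 7 := by
    simp only [okP, Bool.and_eq_true, beq_iff_eq] at hB; exact hB.1
  refine List.ext_getElem (lA.trans lB.symm) fun i h1 h2 => ?_
  obtain ⟨a1, a2⟩ := okP_row hA (i := i) (by omega)
  obtain ⟨b1, b2⟩ := okP_row hB (i := i) (by omega)
  rw [← List.getD_eq_getElem _ 0 h1, ← List.getD_eq_getElem _ 0 h2, a1, b1]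
  refine packL_ext 7 _ _ fun j hj => ?_
  have := congrFun (congrFun h ⟨i, by omega⟩) ⟨j, hj⟩
  simp only [matP, Matrix.of_apply, ZMod.natCast_eq_natCast_iff'] at this
  rwa [Nat.mod_eq_of_lt (a2 j hj), Nat.mod_eq_of_lt (b2 j hj)] at this

theorem mulP_spec {A B : List ℕ} (hA : okP A = true) (hB : okP B = true) :
    matP (mulP A B) = matP A * matP B := by
  have lA : A.length = 7 := by
    simp only [okP, Bool.and_eq_true, beq_iff_eq] at hA; exact hA.1
  funext i j
  simp only [Matrix.mul_apply, matP, Matrix.of_apply, mulP]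
  rw [List.getD_eq_getElem _ _ (by simp [lA]), List.getElem_map, ← List.getD_eq_getElem _ 0]
  obtain ⟨-, ha⟩ := okP_row hA i.2
  have hrw : ((List.range 7).map fun k => ap (A.getD i 0) k * B.getD k 0) =
      (List.range 7).map fun k => ap (A.getD i 0) k * packL (ap (B.getD k 0)) 7 :=
    List.map_congr_left fun k hk => by rw [← (okP_row hB (List.mem_range.mp hk)).1]
  have hlt : ∀ l < 7, ((List.range 7).map fun k => ap (A.getD i 0) k * ap (B.getD k 0) l).sum < 65536 := by
    intro l hl
    have : ((List.range 7).map fun k => ap (A.getD i 0) k * ap (B.getD k 0) l).sum ≤ 7 * 100 := by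
      refine (List.sum_le_card_nsmul _ 100 fun x hx => ?_).trans (le_of_eq (by simp))
      obtain ⟨k, hk, rfl⟩ := List.mem_map.mp hx
      have hk7 := List.mem_range.mp hk
      have h1 := ha k hk7
      have h2 := (okP_row hB hk7).2 l hl
      calc _ ≤ 10 * 10 := Nat.mul_le_mul (by omega) (by omega)
        _ = 100 := rfl
    omega
  rw [mulRow, redRow, hrw, packL_linear, ap_packL 7 _ (fun l hl => by omega) j j.2,
    ap_packL 7 _ hlt j j.2, ZMod.natCast_mod]
  simp only [Fin.sum_univ_succ, Fin.sum_univ_zero, List.range_succ, List.range_zero, List.nil_append,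
    List.cons_append, List.map_cons, List.map_nil, List.sum_cons, List.sum_nil]
  push_cast
  rfl

/-- A packed matrix times a vector. -/
def mulV (A : List ℕ) (v : ℕ) : ℕ :=
  packL (fun i => ((List.range 7).map fun k => ap (A.getD i 0) k * ap v k).sum % 11) 7

/-- A scalar times a vector. -/
def smulV (c v : ℕ) : ℕ := packL (fun i => (c * ap v i) % 11) 7

theorem mulV_spec (A : List ℕ) (v : ℕ) : vecP (mulV A v) = (matP A).mulVec (vecP v) := by
  funext i
  simp only [vecP, mulV, Matrix.mulVec, dotProduct, matP, Matrix.of_apply]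
  rw [ap_packL 7 _ (fun l _ => lt_of_lt_of_le (Nat.mod_lt _ (by norm_num)) (by norm_num)) i i.2, ZMod.natCast_mod]
  simp only [Fin.sum_univ_succ, Fin.sum_univ_zero, List.range_succ, List.range_zero, List.nil_append,
    List.cons_append, List.map_cons, List.map_nil, List.sum_cons, List.sum_nil]
  push_cast
  rfl

theorem smulV_spec (c v : ℕ) : vecP (smulV c v) = (c : ZMod 11) • vecP v := by
  funext i
  simp only [vecP, smulV, Pi.smul_apply, smul_eq_mul]
  rw [ap_packL 7 _ (fun l _ => lt_of_lt_of_le (Nat.mod_lt _ (by norm_num)) (by norm_num)) i i.2, ZMod.natCast_mod]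
  push_cast
  rfl

/-- An entry of the coset table. -/
abbrev CosE : Type := List ℕ × (ℕ × ℕ) × (ℕ × ℕ × ℕ) × (ℕ × ℕ) × (ℕ × ℕ)

/-- An entry of the stabiliser table. -/
abbrev StabE : Type := List ℕ × ℕ × (ℕ × ℕ × ℕ) × ℕ × ℕ

/-- Table lookup. -/
def cosE (i : ℕ) : CosE := (cosData.getD (i / 35) []).getD (i % 35) ([], (0, 0), (0, 0, 0), (0, 0), (0, 0))

/-- The coset matrices. -/
def cosM (i : ℕ) : List ℕ := (cosE i).1

/-- Table lookup. -/
def stabE (k : ℕ) : StabE := stabData.getD k ([], 0, (0, 0, 0), 0, 0)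

/-- The stabiliser matrices. -/
def stabM (k : ℕ) : List ℕ := (stabE k).1

/-- The identity. -/
def oneP : List ℕ := (List.range 7).map fun i => packL (fun j => if i = j then 1 else 0) 7

/-- The generators. -/
def genP (g : ℕ) : List ℕ :=
  if g = 0 then [65536, 4294967296, 281474976710656, 18446744073709551616, 1208925819614629174706176,
    79228162514264337593543950336, 1]
  else [packL (fun j => [8, 2, 10, 10, 8, 10, 8].getD j 0) 7, packL (fun j => [9, 1, 1, 3, 1, 3, 3].getD j 0) 7,
    packL (fun j => [10, 10, 8, 10, 8, 8, 2].getD j 0) 7, packL (fun j => [10, 8, 10, 8, 8, 2, 10].getD j 0) 7,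
    packL (fun j => [8, 10, 8, 8, 2, 10, 10].getD j 0) 7, packL (fun j => [1, 3, 3, 9, 1, 1, 3].getD j 0) 7,
    packL (fun j => [3, 3, 9, 1, 1, 3, 1].getD j 0) 7]

/-- The first nonzero lane is one. -/
def canonV (w : ℕ) : Bool :=
  (List.range 7).any fun p => (ap w p == 1) && (List.range p).all fun q => ap w q == 0

/-- One coset. -/
def cosOK (i : ℕ) : Bool :=
  (fun e => okP e.1 && canonV e.2.1.1 && Nat.blt 0 e.2.1.2 && Nat.blt e.2.1.2 11 &&
    (mulV e.1 fixVec == smulV e.2.1.2 e.2.1.1) &&
    Nat.blt e.2.2.2.1.1 1540 && Nat.blt e.2.2.2.1.2 114 &&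
    (mulP (genP 0) e.1 == mulP (cosM e.2.2.2.1.1) (stabM e.2.2.2.1.2)) &&
    Nat.blt e.2.2.2.2.1 1540 && Nat.blt e.2.2.2.2.2 114 &&
    (mulP (genP 1) e.1 == mulP (cosM e.2.2.2.2.1) (stabM e.2.2.2.2.2)) &&
    (bif e.2.2.1.2.2 == 0 then e.1 == oneP
      else Nat.blt e.2.2.1.1 1540 && Nat.blt (cosE e.2.2.1.1).2.2.1.2.2 e.2.2.1.2.2 &&
        (e.1 == mulP (genP e.2.2.1.2.1) (cosM e.2.2.1.1)))) (cosE i)

/-- The generators of the stabiliser. -/
def stabGenM (g : ℕ) : List ℕ := stabM (stabGens.getD g (0, 0, 0)).1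

/-- One element of the stabiliser. -/
def stabOK (k : ℕ) : Bool :=
  (fun e => okP e.1 && Nat.blt 0 e.2.1 && Nat.blt e.2.1 11 && (mulV e.1 fixVec == smulV e.2.1 fixVec) &&
    Nat.blt e.2.2.2.1 114 && (mulP e.1 (stabGenM 0) == stabM e.2.2.2.1) &&
    Nat.blt e.2.2.2.2 114 && (mulP e.1 (stabGenM 1) == stabM e.2.2.2.2) &&
    (bif e.2.2.1.2.2 == 0 then e.1 == oneP
      else Nat.blt e.2.2.1.1 114 && Nat.blt e.2.2.1.2.1 2 && Nat.blt (stabE e.2.2.1.1).2.2.1.2.2 e.2.2.1.2.2 &&
        (e.1 == mulP (stabM e.2.2.1.1) (stabGenM e.2.2.1.2.1)))) (stabE k)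

/-- A stabiliser generator comes from the table. -/
def stabGenOK (g : ℕ) : Bool :=
  (fun s => Nat.blt s.1 114 && Nat.blt s.2.1 1540 &&
    (fun e => (if s.2.2 = 0 then e.2.2.2.1.2 else e.2.2.2.2.2) == s.1) (cosE s.2.1))
    (stabGens.getD g (0, 0, 0))

/-- Strictly increasing list. -/
def incL : List ℕ → Bool
  | [] => true
  | [_] => true
  | a :: b :: l => Nat.blt a b && incL (b :: l)

/-- A number from a code of a vector, the first lane least significant. -/
def codeV (w : ℕ) : ℕ := packN (fun j => ap w j % 11) 7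
where
  /-- Four bits for each lane. -/
  packN (f : ℕ → ℕ) : ℕ → ℕ
    | 0 => 0
    | n + 1 => f 0 + 16 * packN (fun j => f (j + 1)) n

theorem incL_sound : ∀ l : List ℕ, incL l = true → l.Pairwise (· < ·)
  | [], _ => List.Pairwise.nil
  | [a], _ => List.pairwise_singleton _ a
  | a :: b :: l, h => by
    simp only [incL, Bool.and_eq_true, Nat.blt, Nat.ble_eq] at h
    have ih := incL_sound (b :: l) h.2
    refine List.Pairwise.cons (fun x hx => ?_) ih
    rcases List.mem_cons.mp hx with rfl | hx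
    · omega
    · have := (List.pairwise_cons.mp ih).1 x hx; omega

set_option maxRecDepth 20000 in
theorem cos_ok : (List.range 1540).all cosOK = true := by decide +kernel

theorem stab_ok : (List.range 114).all stabOK = true ∧ stabGenOK 0 = true ∧ stabGenOK 1 = true ∧
    cosOK cosRoot = true ∧ cosRoot < 1540 ∧ cosM cosRoot = oneP ∧ stabM 0 = oneP ∧ okP oneP = true ∧
    okP (genP 0) = true ∧ okP (genP 1) = true ∧ ((List.range 114).map stabM).Nodup := by decide +kernel

theorem point_inc : incL ((List.range 1540).map fun i => codeV (cosE i).2.1.1) = true := by decide +kernel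

theorem gen_mat : matP oneP = 1 ∧ matP (genP 0) = jankoMatrixX ∧ matP (genP 1) = jankoMatrixY := by decide +kernel

end Cfsg.Lib.Janko
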