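import Cfsg.Agent.Janko.Simple
import Cfsg.Agent.Schur.SylowTransfer

/-!
The multiplier of the smallest Janko group is trivial.
-/

set_option autoImplicit false
set_option maxRecDepth 100000

namespace Cfsg.Lib.Janko

open Cfsg Cfsg.Lib.PermCert
open scoped commutatorElement

/-- A word in the two generators. -/
def jWord (w : List Bool) : GL (Fin 7) (ZMod 11) :=
  (w.map fun x => bif x then Spor.jankoY else Spor.jankoX).prod

/-- Its packed matrix. -/
def mulWordP : List Bool → List ℕ
  | [] => oneP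
  | x :: w => mulP (genP (bif x then 1 else 0)) (mulWordP w)

/-- The packed matrices of a word and its suffixes are well formed. -/
def wordOK : List Bool → Bool
  | [] => okP oneP
  | x :: w => okP (mulWordP (x :: w)) && wordOK w

theorem wordOK_okP : ∀ {w : List Bool}, wordOK w = true → okP (mulWordP w) = true
  | [], h => h
  | _ :: _, h => (Bool.and_eq_true _ _ ▸ h : _ ∧ _).1

theorem jWord_mem (w : List Bool) : jWord w ∈ Spor.J1 :=
  Subgroup.list_prod_mem _ fun g hg => by
    obtain ⟨x, -, rfl⟩ := List.mem_map.mp hg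
    exact Subgroup.subset_closure (by cases x <;> simp)

theorem matP_mulWordP : ∀ {w : List Bool}, wordOK w = true → matP (mulWordP w) = (jWord w : M7)
  | [], _ => gen_mat.1
  | x :: w, h => by
    simp only [wordOK, Bool.and_eq_true] at h
    rw [mulWordP, mulP_spec (okP_gen _) (wordOK_okP h.2), matP_mulWordP h.2]
    simp only [jWord, List.map_cons, List.prod_cons, Units.val_mul]
    congr 1
    cases x
    · exact gen_mat.2.1
    · exact gen_mat.2.2

theorem jWord_eq_iff {u v : List Bool} (hu : wordOK u = true) (hv : wordOK v = true) :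
    jWord u = jWord v ↔ mulWordP u = mulWordP v := by
  constructor
  · intro h
    exact okP_ext (wordOK_okP hu) (wordOK_okP hv) (by rw [matP_mulWordP hu, matP_mulWordP hv, h])
  · intro h
    exact Units.ext (by rw [← matP_mulWordP hu, ← matP_mulWordP hv, h])

/-- The first involution. -/
def wA : List Bool := [false, true, false, true, true, true, true]
/-- The second involution. -/
def wB : List Bool := [false, true, false, false, true, true, true, true, false]
/-- The third involution. -/
def wC : List Bool := [false, false, true, false, false, false, true, true, true, true, false]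
/-- An element permuting them. -/
def wN : List Bool := [false, false]

/-- The eight products. -/
def cubeWords : List (List Bool) := [[], wA, wB, wA ++ wB, wC, wA ++ wC, wB ++ wC, wA ++ wB ++ wC]

theorem mult_ok :
    (let e := fun u v => wordOK u && wordOK v && (mulWordP u == mulWordP v)
     e (wA ++ wA) [] && e (wB ++ wB) [] && e (wC ++ wC) [] && e (wA ++ wB) (wB ++ wA) &&
     e (wA ++ wC) (wC ++ wA) && e (wB ++ wC) (wC ++ wB) && e (wN ++ wA) (wB ++ wN) && e (wN ++ wB) (wC ++ wN) &&
     e (wN ++ wC) (wA ++ wB ++ wN) && cubeWords.all wordOK) = true ∧ (cubeWords.map mulWordP).Nodup := by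
  decide +kernel

theorem jWord_append (u v : List Bool) : jWord (u ++ v) = jWord u * jWord v := by
  simp [jWord, List.prod_append]

end Cfsg.Lib.Janko

namespace Cfsg.Lib.Schur

open scoped commutatorElement

universe u v

/-- An elementary abelian Sylow 2-subgroup of order eight with an element of order seven normalising it. -/
theorem exists_sylow_cube {Γ : Type u} {Q : Type v} [Group Γ] [Group Q] [Finite Γ] [Finite Q] {σ : Γ →* Q}
    [Fact (Nat.Prime 2)] (hσ : Cfsg.IsStemExtension σ) (a b c n : Q)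
    (hcard : Nat.card (Subgroup.closure {a, b, c}) = 2 ^ (Nat.card Q).factorization 2)
    (ha : a ^ 2 = 1) (hab : a * b = b * a) (hac : a * c = c * a) (hbc : b * c = c * b)
    (h1 : n * a * n⁻¹ = b) (h2 : n * b * n⁻¹ = c) (h3 : n * c * n⁻¹ = a * b) :
    ∃ S : Sylow 2 Γ, ∀ z ∈ σ.ker, z ∈ ⁅(S : Subgroup Γ), (S : Subgroup Γ)⁆ → z = 1 := by
  obtain ⟨S, hS⟩ := exists_sylow_map_le hσ.1 _ hcard
  obtain ⟨A, rfl⟩ := hσ.1 a
  obtain ⟨N, rfl⟩ := hσ.1 n
  set B := N * A * N⁻¹ with hB
  set C := N * B * N⁻¹ with hC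
  have hσB : σ B = b := by rw [hB, map_mul, map_mul, map_inv, h1]
  have hσC : σ C = c := by rw [hC, map_mul, map_mul, map_inv, hσB, h2]
  have hcen : ∀ w, σ w = 1 → ∀ g, g * w = w * g := fun w hw => Subgroup.mem_center_iff.mp (hσ.2.1 hw)
  have kAB : σ ⁅A, B⁆ = 1 := by rw [map_commutatorElement, hσB, commutatorElement_eq_one_iff_mul_comm, hab]
  have kBC : σ ⁅B, C⁆ = 1 := by rw [map_commutatorElement, hσB, hσC, commutatorElement_eq_one_iff_mul_comm, hbc]
  have kCA : σ ⁅C, A⁆ = 1 := by rw [map_commutatorElement, hσC, commutatorElement_eq_one_iff_mul_comm, hac]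
  obtain ⟨w, hw, hNC⟩ : ∃ w, σ w = 1 ∧ N * C * N⁻¹ = A * B * w :=
    ⟨(A * B)⁻¹ * (N * C * N⁻¹), by rw [map_mul, map_inv, map_mul σ A B, hσB, map_mul, map_mul, map_inv, hσC, h3,
      inv_mul_cancel], by group⟩
  have conjN : ∀ x y : Γ, σ ⁅x, y⁆ = 1 → ⁅x, y⁆ = ⁅N * x * N⁻¹, N * y * N⁻¹⁆ := by
    intro x y hk
    calc ⁅x, y⁆ = N * ⁅x, y⁆ * N⁻¹ := by rw [hcen _ hk N, mul_inv_cancel_right]
      _ = _ := by simp only [commutatorElement_def]; group
  have absorb : ∀ x y : Γ, ⁅x * w, y⁆ = ⁅x, y⁆ ∧ ⁅y, x * w⁆ = ⁅y, x⁆ := by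
    intro x y
    refine ⟨?_, ?_⟩
    · simp only [commutatorElement_def, mul_inv_rev]
      rw [show x * w * y * (w⁻¹ * x⁻¹) * y⁻¹ = x * (w * y) * w⁻¹ * x⁻¹ * y⁻¹ by group, ← hcen w hw y]
      group
    · simp only [commutatorElement_def, mul_inv_rev]
      rw [show y * (x * w) * y⁻¹ * (w⁻¹ * x⁻¹) = y * x * (w * y⁻¹) * w⁻¹ * x⁻¹ by group, ← hcen w hw y⁻¹]
      group
  set u := ⁅A, B⁆ with hu
  have e1 : ⁅B, C⁆ = u := ((conjN A B kAB)).symm
  have hu2 : u ^ 2 = 1 := commutator_lift_pow hσ.2.1 ha (by rw [← map_commutatorElement]; exact kAB)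
  have e2 : ⁅C, A⁆ = 1 := by
    have h := conjN B C kBC
    rw [hNC, (absorb (A * B) (N * B * N⁻¹)).2, ← hC,
      show ⁅C, A * B⁆ = ⁅C, A⁆ * (A * ⁅C, B⁆ * A⁻¹) by simp only [commutatorElement_def]; group,
      show ⁅C, B⁆ = ⁅B, C⁆⁻¹ by rw [commutatorElement_inv], e1,
      hcen u⁻¹ (by rw [map_inv, kAB, inv_one]) A, mul_inv_cancel_right] at h
    rw [eq_mul_inv_iff_mul_eq.mp h |>.symm, ← sq, hu2]
  have e3 : u = 1 := by
    have h := conjN C A kCA
    rw [hNC, ← hB, (absorb (A * B) B).1, e2,
      show ⁅A * B, B⁆ = A * ⁅B, B⁆ * A⁻¹ * ⁅A, B⁆ by simp only [commutatorElement_def]; group,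
      commutatorElement_self, mul_one, mul_inv_cancel, one_mul] at h
    exact h.symm
  rw [e3] at e1
  refine ⟨S, fun z _ hzS => eq_one_of_commuting hσ.2.1 (T := {A, B, C}) ?_ ?_ hzS⟩
  · rw [Set.image_insert_eq, Set.image_pair, hσB, hσC]; exact hS
  · have cAB := commutatorElement_eq_one_iff_mul_comm.mp e3
    have cBC := commutatorElement_eq_one_iff_mul_comm.mp e1
    have cCA := commutatorElement_eq_one_iff_mul_comm.mp e2
    rintro t (rfl | rfl | rfl) u' (rfl | rfl | rfl) <;>
      first | rfl | exact cAB | exact cAB.symm | exact cBC | exact cBC.symm | exact cCA | exact cCA.symm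

end Cfsg.Lib.Schur

namespace Cfsg.Lib.Janko

open Cfsg Cfsg.Lib.PermCert
open scoped commutatorElement

theorem multiplier_J1 : Cfsg.HasCyclicSchurMultiplier ↥Spor.J1 1 := by
  haveI : Finite ↥Spor.J1 := Finite.of_injective _ Subtype.val_injective
  have hcard : Nat.card ↥Spor.J1 = 175560 := card_J
  obtain ⟨h, hnd⟩ := mult_ok
  simp only [Bool.and_eq_true, beq_iff_eq, List.all_eq_true] at h
  obtain ⟨⟨⟨⟨⟨⟨⟨⟨⟨ea, eb⟩, ec⟩, eab⟩, eac⟩, ebc⟩, ena⟩, enb⟩, enc⟩, hok⟩ := h
  have eq : ∀ {u v : List Bool}, (wordOK u = true ∧ wordOK v = true) ∧ mulWordP u = mulWordP v → jWord u = jWord v :=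
    fun h => (jWord_eq_iff h.1.1 h.1.2).mpr h.2
  let el : List Bool → ↥Spor.J1 := fun w => ⟨jWord w, jWord_mem w⟩
  have happ : ∀ u v, el (u ++ v) = el u * el v := fun u v => Subtype.ext (jWord_append u v)
  have hel : ∀ {u v : List Bool}, (wordOK u = true ∧ wordOK v = true) ∧ mulWordP u = mulWordP v → el u = el v :=
    fun h => Subtype.ext (eq h)
  have h1 : el [] = 1 := Subtype.ext (by simp [el, jWord])
  set a := el wA with hA
  set b := el wB with hB
  set c := el wC with hC
  set n := el wN with hN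
  have ha : a * a = 1 := by rw [← happ, ← h1]; exact hel ea
  have hb : b * b = 1 := by rw [← happ, ← h1]; exact hel eb
  have hc : c * c = 1 := by rw [← happ, ← h1]; exact hel ec
  have hab : a * b = b * a := by rw [← happ, ← happ]; exact hel eab
  have hac : a * c = c * a := by rw [← happ, ← happ]; exact hel eac
  have hbc : b * c = c * b := by rw [← happ, ← happ]; exact hel ebc
  have hna : n * a = b * n := by rw [← happ, ← happ]; exact hel ena
  have hnb : n * b = c * n := by rw [← happ, ← happ]; exact hel enb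
  have hnc : n * c = a * b * n := by rw [← happ, ← happ, ← happ]; exact hel enc
  have hmap : cubeWords.map el = [1, a, b, a * b, c, a * c, b * c, a * b * c] := by
    simp only [cubeWords, List.map_cons, List.map_nil, happ, h1, ← hA, ← hB, ← hC]
  have hnd' : (cubeWords.map el).Nodup := by
    refine (List.Nodup.of_map _ hnd).map_on fun x hx y hy e => ?_
    exact List.inj_on_of_nodup_map hnd hx hy
      ((jWord_eq_iff (hok x hx) (hok y hy)).mp (congrArg Subtype.val e))
  rw [hmap] at hnd'
  clear_value a b c n el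
  refine Cfsg.Lib.Schur.hasCyclicSchurMultiplier_one_of fun Γ _ _ σ hσ =>
    Cfsg.Lib.Schur.ker_eq_bot_of_sylow hσ fun p hp => ?_
  haveI := hp
  by_cases h2 : p = 2
  · subst h2
    refine Cfsg.Lib.Schur.exists_sylow_cube hσ a b c n ?_ (by rw [sq, ha]) hab hac hbc
      (mul_inv_eq_iff_eq_mul.mpr hna) (mul_inv_eq_iff_eq_mul.mpr hnb) (mul_inv_eq_iff_eq_mul.mpr hnc)
    rw [hcard, show (175560 : ℕ).factorization 2 = 3 from by
      have h1 := (Nat.prime_two.pow_dvd_iff_le_factorization (k := 3) (n := 175560) (by norm_num)).mp (by norm_num)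
      have h2 : ¬ 4 ≤ (175560 : ℕ).factorization 2 := fun h => by
        have := (Nat.prime_two.pow_dvd_iff_le_factorization (k := 4) (n := 175560) (by norm_num)).mpr h
        norm_num at this
      omega]
    set H := Subgroup.closure ({a, b, c} : Set ↥Spor.J1) with hH
    have hcomm : ∀ x ∈ ({a, b, c} : Set ↥Spor.J1), ∀ y ∈ ({a, b, c} : Set ↥Spor.J1), x * y = y * x := by
      rintro x (rfl | rfl | rfl) y (rfl | rfl | rfl) <;>
        first | rfl | exact hab | exact hab.symm | exact hac | exact hac.symm | exact hbc | exact hbc.symm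
    have hexp : ∀ x ∈ H, x ^ 2 = 1 := by
      intro x hx
      have hall : ∀ x ∈ H, ∀ y ∈ H, Commute x y := fun x hx y hy =>
        congrArg Subtype.val ((Subgroup.isMulCommutative_closure hcomm).is_comm.comm (⟨x, hx⟩ : H) ⟨y, hy⟩)
      induction hx using Subgroup.closure_induction with
      | mem x hx => rcases hx with rfl | rfl | rfl <;> rw [sq] <;> assumption
      | one => exact one_pow 2
      | mul x y hx hy ihx ihy => rw [(hall x hx y hy).mul_pow, ihx, ihy, one_mul]
      | inv x _ ihx => rw [inv_pow, ihx, inv_one]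
    have hP : IsPGroup 2 H := fun x => ⟨1, Subtype.ext (by rw [pow_one, Subgroup.coe_pow]; exact hexp x x.2)⟩
    obtain ⟨k, hk⟩ := hP.exists_card_eq
    have mA : a ∈ H := Subgroup.subset_closure (Set.mem_insert _ _)
    have mB : b ∈ H := Subgroup.subset_closure (Set.mem_insert_of_mem _ (Set.mem_insert _ _))
    have mC : c ∈ H := Subgroup.subset_closure (Set.mem_insert_of_mem _ (Set.mem_insert_of_mem _ rfl))
    have h8 : 8 ≤ Nat.card H := by
      classical
      have hsub : (([1, a, b, a * b, c, a * c, b * c, a * b * c] : List ↥Spor.J1).toFinset : Set ↥Spor.J1) ⊆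
          (H : Set ↥Spor.J1) := by
        intro x hx
        have hx := List.mem_toFinset.mp hx
        simp only [List.mem_cons, List.not_mem_nil, or_false] at hx
        rcases hx with rfl | rfl | rfl | rfl | rfl | rfl | rfl | rfl
        exacts [one_mem _, mA, mB, mul_mem mA mB, mC, mul_mem mA mC, mul_mem mB mC, mul_mem (mul_mem mA mB) mC]
      have := Set.ncard_le_ncard hsub
      rw [Set.ncard_coe_finset, List.toFinset_card_of_nodup hnd'] at this
      exact this.trans (le_of_eq (Nat.card_coe_set_eq _).symm)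
    have hd := Subgroup.card_subgroup_dvd_card H
    rw [hcard, hk] at hd
    rw [hk] at h8
    rcases Nat.lt_or_ge 3 k with h4 | h4
    · exact absurd (dvd_trans (pow_dvd_pow 2 (h4 : 4 ≤ k)) hd) (by norm_num)
    · have : 2 ^ k ≤ 2 ^ 3 := Nat.pow_le_pow_right (by norm_num) h4
      omega
  refine Cfsg.Lib.Schur.exists_sylow_cyclic hσ ?_
  rw [hcard]
  intro hd
  have hp' := hp.out
  have hdp : p ∣ 2 ^ 3 * 3 * 5 * 7 * 11 * 19 := by norm_num; exact dvd_trans (dvd_pow_self p two_ne_zero) hd
  have hone : ∀ {q : ℕ}, q.Prime → p ∣ q → p = q := fun hq h => (Nat.prime_dvd_prime_iff_eq hp' hq).mp h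
  rcases (Nat.Prime.dvd_mul hp').mp hdp with h | h
  rcases (Nat.Prime.dvd_mul hp').mp h with h | h
  rcases (Nat.Prime.dvd_mul hp').mp h with h | h
  rcases (Nat.Prime.dvd_mul hp').mp h with h | h
  rcases (Nat.Prime.dvd_mul hp').mp h with h | h
  · exact h2 (hone Nat.prime_two (hp'.dvd_of_dvd_pow h))
  all_goals (have := hone (by norm_num) h; subst this; norm_num at hd)

end Cfsg.Lib.Janko
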