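import Cfsg.Agent.Janko.Check

/-!
# The cosets of the smallest Janko group are closed under the generators
-/

set_option autoImplicit false

namespace Cfsg.Lib.Janko

open Cfsg Cfsg.Lib.PermCert

/-- The group. -/
abbrev J : Subgroup (GL (Fin 7) (ZMod 11)) := Spor.J1

/-- The matrices of the group. -/
def InJ (A : M7) : Prop := ∃ g ∈ J, ((g : GL (Fin 7) (ZMod 11)) : M7) = A

theorem InJ.mul {A B : M7} (hA : InJ A) (hB : InJ B) : InJ (A * B) := by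
  obtain ⟨g, hg, rfl⟩ := hA
  obtain ⟨h, hh, rfl⟩ := hB
  exact ⟨g * h, mul_mem hg hh, rfl⟩

theorem InJ.gen {g : ℕ} : InJ (matP (genP g)) := by
  by_cases h : g = 0
  · subst h; rw [gen_mat.2.1]
    exact ⟨Spor.jankoX, Subgroup.subset_closure (Or.inl rfl), rfl⟩
  · rw [show genP g = genP 1 by simp [genP, h], gen_mat.2.2]
    exact ⟨Spor.jankoY, Subgroup.subset_closure (Or.inr rfl), rfl⟩

theorem cos_facts {i : ℕ} (hi : i < 1540) :
    okP (cosM i) = true ∧ canonV (cosE i).2.1.1 = true ∧ (0 < (cosE i).2.1.2 ∧ (cosE i).2.1.2 < 11) ∧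
    (matP (cosM i)).mulVec (vecP fixVec) = ((cosE i).2.1.2 : ZMod 11) • vecP (cosE i).2.1.1 ∧
    (((cosE i).2.2.2.1.1 < 1540 ∧ (cosE i).2.2.2.1.2 < 114) ∧
      mulP (genP 0) (cosM i) = mulP (cosM (cosE i).2.2.2.1.1) (stabM (cosE i).2.2.2.1.2)) ∧
    (((cosE i).2.2.2.2.1 < 1540 ∧ (cosE i).2.2.2.2.2 < 114) ∧
      mulP (genP 1) (cosM i) = mulP (cosM (cosE i).2.2.2.2.1) (stabM (cosE i).2.2.2.2.2)) ∧
    ((cosE i).2.2.1.2.2 = 0 ∧ cosM i = oneP ∨ ((cosE i).2.2.1.1 < 1540 ∧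
      (cosE (cosE i).2.2.1.1).2.2.1.2.2 < (cosE i).2.2.1.2.2 ∧
      cosM i = mulP (genP (cosE i).2.2.1.2.1) (cosM (cosE i).2.2.1.1))) := by
  have h := List.all_eq_true.mp cos_ok i (List.mem_range.mpr hi)
  simp only [cosOK, Bool.and_eq_true, Nat.blt, Nat.ble_eq, beq_iff_eq] at h
  obtain ⟨⟨⟨⟨⟨⟨⟨⟨⟨⟨⟨h1, h2⟩, h3⟩, h4⟩, h5⟩, h6⟩, h7⟩, h8⟩, h9⟩, h10⟩, h11⟩, h12⟩ := h
  refine ⟨h1, h2, ⟨h3, h4⟩, ?_, ⟨⟨h6, h7⟩, h8⟩, ⟨⟨h9, h10⟩, h11⟩, ?_⟩
  · rw [← mulV_spec, ← smulV_spec]; exact congrArg vecP h5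
  · cases h0 : ((cosE i).2.2.1.2.2 == 0)
    · simp only [h0, cond_false, Bool.and_eq_true, beq_iff_eq, Nat.ble_eq] at h12
      exact Or.inr ⟨h12.1.1, h12.1.2, h12.2⟩
    · simp only [h0, cond_true, beq_iff_eq] at h12
      exact Or.inl ⟨by simpa using h0, h12⟩

theorem stab_facts {k : ℕ} (hk : k < 114) :
    okP (stabM k) = true ∧ (0 < (stabE k).2.1 ∧ (stabE k).2.1 < 11) ∧
    (matP (stabM k)).mulVec (vecP fixVec) = ((stabE k).2.1 : ZMod 11) • vecP fixVec ∧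
    ((stabE k).2.2.2.1 < 114 ∧ mulP (stabM k) (stabGenM 0) = stabM (stabE k).2.2.2.1) ∧
    ((stabE k).2.2.2.2 < 114 ∧ mulP (stabM k) (stabGenM 1) = stabM (stabE k).2.2.2.2) ∧
    ((stabE k).2.2.1.2.2 = 0 ∧ stabM k = oneP ∨ ((stabE k).2.2.1.1 < 114 ∧ (stabE k).2.2.1.2.1 < 2 ∧
      (stabE (stabE k).2.2.1.1).2.2.1.2.2 < (stabE k).2.2.1.2.2 ∧
      stabM k = mulP (stabM (stabE k).2.2.1.1) (stabGenM (stabE k).2.2.1.2.1))) := by
  have h := List.all_eq_true.mp stab_ok.1 k (List.mem_range.mpr hk)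
  simp only [stabOK, Bool.and_eq_true, Nat.blt, Nat.ble_eq, beq_iff_eq] at h
  obtain ⟨⟨⟨⟨⟨⟨⟨⟨h1, h2⟩, h3⟩, h4⟩, h5⟩, h6⟩, h7⟩, h8⟩, h9⟩ := h
  refine ⟨h1, ⟨h2, h3⟩, ?_, ⟨h5, h6⟩, ⟨h7, h8⟩, ?_⟩
  · rw [← mulV_spec, ← smulV_spec]; exact congrArg vecP h4
  · cases h0 : ((stabE k).2.2.1.2.2 == 0)
    · simp only [h0, cond_false, Bool.and_eq_true, beq_iff_eq, Nat.ble_eq] at h9
      exact Or.inr ⟨h9.1.1.1, h9.1.1.2, h9.1.2, h9.2⟩
    · simp only [h0, cond_true, beq_iff_eq] at h9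
      exact Or.inl ⟨by simpa using h0, h9⟩

theorem stabGenM_ok {g : ℕ} (hg : g < 2) :
    ∃ a < 114, stabGenM g = stabM a ∧ ∃ i < 1540, ∃ s j, j < 1540 ∧ mulP (genP s) (cosM i) = mulP (cosM j) (stabM a) := by
  have h : stabGenOK g = true := by
    rcases (show g = 0 ∨ g = 1 by omega) with rfl | rfl
    exacts [stab_ok.2.1, stab_ok.2.2.1]
  simp only [stabGenOK, Bool.and_eq_true, Nat.blt, Nat.ble_eq, beq_iff_eq] at h
  obtain ⟨⟨ha, hi⟩, he⟩ := h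
  obtain ⟨-, -, -, -, ⟨⟨hj0, -⟩, e0⟩, ⟨⟨hj1, -⟩, e1⟩, -⟩ := cos_facts hi
  refine ⟨_, ha, rfl, _, hi, ?_⟩
  by_cases hs : (stabGens.getD g (0, 0, 0)).2.2 = 0
  · rw [if_pos hs] at he
    exact ⟨0, _, hj0, he ▸ e0⟩
  · rw [if_neg hs] at he
    exact ⟨1, _, hj1, he ▸ e1⟩

theorem okP_gen (g : ℕ) : okP (genP g) = true := by
  by_cases h : g = 0
  · subst h; exact stab_ok.2.2.2.2.2.2.2.2.1
  · rw [show genP g = genP 1 by simp [genP, h]]; exact stab_ok.2.2.2.2.2.2.2.2.2.1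

theorem cos_mem : ∀ (d i : ℕ), i < 1540 → (cosE i).2.2.1.2.2 = d → InJ (matP (cosM i)) := by
  intro d
  induction d using Nat.strong_induction_on with
  | _ d ih =>
    intro i hi hd
    obtain ⟨-, -, -, -, -, -, ⟨-, h⟩ | ⟨hp, hlt, h⟩⟩ := cos_facts hi
    · rw [h, gen_mat.1]; exact ⟨1, one_mem _, rfl⟩
    · rw [h, mulP_spec (okP_gen _) (cos_facts hp).1]
      exact InJ.gen.mul (ih _ (hd ▸ hlt) _ hp rfl)

theorem stabGen_mem {g : ℕ} (hg : g < 2) : InJ (matP (stabGenM g)) := by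
  obtain ⟨a, ha, hga, i, hi, s, j, hj, he⟩ := stabGenM_ok hg
  rw [hga]
  have h := congrArg matP he
  rw [mulP_spec (okP_gen s) (cos_facts hi).1, mulP_spec (cos_facts hj).1 (stab_facts ha).1] at h
  obtain ⟨u, hu, hu'⟩ := cos_mem _ j hj rfl
  obtain ⟨w, hw, hw'⟩ := InJ.gen.mul (cos_mem _ i hi rfl) (A := matP (genP s))
  refine ⟨u⁻¹ * w, mul_mem (inv_mem hu) hw, ?_⟩
  rw [Units.val_mul, hw', h, ← hu', ← mul_assoc, Units.inv_mul, one_mul]

theorem stab_mem : ∀ (d k : ℕ), k < 114 → (stabE k).2.2.1.2.2 = d → InJ (matP (stabM k)) := by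
  intro d
  induction d using Nat.strong_induction_on with
  | _ d ih =>
    intro k hk hd
    obtain ⟨-, -, -, -, -, ⟨-, h⟩ | ⟨hp, hg, hlt, h⟩⟩ := stab_facts hk
    · rw [h, gen_mat.1]; exact ⟨1, one_mem _, rfl⟩
    · obtain ⟨a, ha, hga, -⟩ := stabGenM_ok hg
      rw [h, mulP_spec (stab_facts hp).1 (hga ▸ (stab_facts ha).1)]
      exact (ih _ (hd ▸ hlt) _ hp rfl).mul (stabGen_mem hg)

theorem stab_closed {i : ℕ} (hi : i < 114) : ∀ (d k : ℕ), k < 114 → (stabE k).2.2.1.2.2 = d →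
    ∃ m < 114, matP (stabM i) * matP (stabM k) = matP (stabM m) := by
  intro d
  induction d using Nat.strong_induction_on with
  | _ d ih =>
    intro k hk hd
    obtain ⟨-, -, -, -, -, ⟨-, h⟩ | ⟨hp, hg, hlt, h⟩⟩ := stab_facts hk
    · exact ⟨i, hi, by rw [h, gen_mat.1, mul_one]⟩
    · obtain ⟨a, ha, hga, -⟩ := stabGenM_ok hg
      have hok : okP (stabGenM (stabE k).2.2.1.2.1) = true := hga ▸ (stab_facts ha).1
      obtain ⟨m, hm, e⟩ := ih _ (hd ▸ hlt) _ hp rfl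
      obtain ⟨hmok, -, -, ⟨b0, e0⟩, ⟨b1, e1⟩, -⟩ := stab_facts hm
      rcases (show (stabE k).2.2.1.2.1 = 0 ∨ (stabE k).2.2.1.2.1 = 1 by omega) with hg' | hg'
      · refine ⟨_, b0, ?_⟩
        rw [h, mulP_spec (stab_facts hp).1 hok, ← mul_assoc, e, ← mulP_spec hmok hok, hg', e0]
      · refine ⟨_, b1, ?_⟩
        rw [h, mulP_spec (stab_facts hp).1 hok, ← mul_assoc, e, ← mulP_spec hmok hok, hg', e1]

theorem left_closed (g : ℕ) {i k : ℕ} (hi : i < 1540) (hk : k < 114) :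
    ∃ j < 1540, ∃ m < 114, matP (genP g) * (matP (cosM i) * matP (stabM k)) = matP (cosM j) * matP (stabM m) := by
  obtain ⟨hok, -, -, -, ⟨⟨j0, k0⟩, e0⟩, ⟨⟨j1, k1⟩, e1⟩, -⟩ := cos_facts hi
  have key : ∀ (j k' : ℕ), j < 1540 → k' < 114 → mulP (genP g) (cosM i) = mulP (cosM j) (stabM k') →
      ∃ j < 1540, ∃ m < 114, matP (genP g) * (matP (cosM i) * matP (stabM k)) = matP (cosM j) * matP (stabM m) := by
    intro j k' hj hk' he
    obtain ⟨m, hm, hmul⟩ := stab_closed hk' _ k hk rfl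
    have h := congrArg matP he
    rw [mulP_spec (okP_gen g) hok, mulP_spec (cos_facts hj).1 (stab_facts hk').1] at h
    exact ⟨j, hj, m, hm, by rw [← mul_assoc, h, mul_assoc, hmul]⟩
  by_cases hg : g = 0
  · exact key _ _ j0 k0 (by rw [hg]; exact e0)
  · exact key _ _ j1 k1 (by rw [show genP g = genP 1 by simp [genP, hg]]; exact e1)

theorem decomp {g : GL (Fin 7) (ZMod 11)} (hg : g ∈ J) :
    ∃ i < 1540, ∃ k < 114, (g : M7) = matP (cosM i) * matP (stabM k) := by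
  have hg' : g ∈ Submonoid.closure ({Spor.jankoX, Spor.jankoY} : Set (GL (Fin 7) (ZMod 11))) := by
    rw [← Subgroup.closure_toSubmonoid_of_finite]; exact hg
  induction hg' using Submonoid.closure_induction_left with
  | one =>
    exact ⟨cosRoot, stab_ok.2.2.2.2.1, 0, by norm_num,
      by rw [stab_ok.2.2.2.2.2.1, stab_ok.2.2.2.2.2.2.1, gen_mat.1, one_mul]; rfl⟩
  | mul_left x hx y hy ih =>
    obtain ⟨i, hi, k, hk, e⟩ := ih (Subgroup.le_closure_toSubmonoid _ hy)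
    rcases hx with rfl | hx
    · obtain ⟨j, hj, m, hm, h⟩ := left_closed 0 hi hk
      exact ⟨j, hj, m, hm, by rw [Units.val_mul, e, ← h, gen_mat.2.1]; rfl⟩
    · rw [Set.mem_singleton_iff] at hx; subst hx
      obtain ⟨j, hj, m, hm, h⟩ := left_closed 1 hi hk
      exact ⟨j, hj, m, hm, by rw [Units.val_mul, e, ← h, gen_mat.2.2]; rfl⟩

theorem canon_unique {w w' : ℕ} (hw : canonV w = true) (hw' : canonV w' = true) {c c' : ZMod 11}
    (hc : c ≠ 0) (hc' : c' ≠ 0) (h : c • vecP w = c' • vecP w') : vecP w = vecP w' := by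
  haveI : Fact (Nat.Prime 11) := ⟨by norm_num⟩
  simp only [canonV, List.any_eq_true, List.mem_range, Bool.and_eq_true, beq_iff_eq, List.all_eq_true] at hw hw'
  obtain ⟨p, hp, hp1, hp0⟩ := hw
  obtain ⟨q, hq, hq1, hq0⟩ := hw'
  have hval : ∀ j : Fin 7, c * vecP w j = c' * vecP w' j := fun j => congrFun h j
  rcases lt_trichotomy p q with hlt | rfl | hlt
  · have := hval ⟨p, hp⟩
    simp [vecP, hp1, hq0 p hlt] at this
    exact absurd this hc
  · have := hval ⟨p, hp⟩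
    simp [vecP, hp1, hq1] at this
    subst this
    exact smul_right_injective (Fin 7 → ZMod 11) hc h
  · have := hval ⟨q, hq⟩
    simp [vecP, hq1, hp0 q hlt] at this
    exact absurd this.symm hc'

theorem natCast_ne_zero {n : ℕ} (h0 : 0 < n) (h : n < 11) : (n : ZMod 11) ≠ 0 := by
  rw [Ne, ZMod.natCast_eq_zero_iff]
  exact Nat.not_dvd_of_pos_of_lt h0 h

theorem packN_ext : ∀ (n : ℕ) (f g : ℕ → ℕ), (∀ j < n, f j = g j) → codeV.packN f n = codeV.packN g n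
  | 0, _, _, _ => rfl
  | n + 1, f, g, h => by
    rw [codeV.packN, codeV.packN, h 0 (by omega), packN_ext n _ _ fun j hj => h (j + 1) (by omega)]

theorem point_injective {i j : ℕ} (hi : i < 1540) (hj : j < 1540)
    (h : vecP (cosE i).2.1.1 = vecP (cosE j).2.1.1) : i = j := by
  have hp := incL_sound _ point_inc
  rw [List.pairwise_map, List.pairwise_iff_getElem] at hp
  by_contra hne
  wlog hlt : i < j generalizing i j
  · exact this hj hi h.symm (Ne.symm hne) (by omega)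
  have hlt' := hp i j (by simpa using hi) (by simpa using hj) hlt
  simp only [List.getElem_range] at hlt'
  refine absurd ?_ hlt'.ne
  unfold codeV
  refine packN_ext 7 _ _ fun l hl => ?_
  have := congrFun h ⟨l, hl⟩
  simpa [vecP, ZMod.natCast_eq_natCast_iff'] using this

end Cfsg.Lib.Janko
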