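import Cfsg.Agent.Janko.Centralizer

/-!
# Commutants of cyclic matrices modulo 11
-/

set_option autoImplicit false

namespace Cfsg.Lib.Janko

open Polynomial

/-- The first unit vector. -/
def e0 : Fin 7 → ZMod 11 := Pi.single 0 1

/-- The matrix whose columns are the iterated images of the first unit vector. -/
def krylov (A : M7) : M7 := Matrix.of fun i j => ((A ^ (j : ℕ)).mulVec e0) i

theorem exists_poly_of_commute {A L h : M7} (hL : krylov A * L = 1) (hc : A * h = h * A) :
    ∃ f : (ZMod 11)[X], h = aeval A f := by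
  set c : Fin 7 → ZMod 11 := L.mulVec (h.mulVec e0) with hc0
  refine ⟨∑ i : Fin 7, C (c i) * X ^ (i : ℕ), ?_⟩
  set P : M7 := aeval A (∑ i : Fin 7, C (c i) * X ^ (i : ℕ))
  have hP : P.mulVec e0 = h.mulVec e0 := by
    have : P.mulVec e0 = (krylov A).mulVec c := by
      simp only [P, map_sum, map_mul, aeval_C, aeval_X_pow, Algebra.algebraMap_eq_smul_one,
        smul_mul_assoc, one_mul, Matrix.sum_mulVec, Matrix.smul_mulVec]
      ext j
      simp only [Finset.sum_apply, Pi.smul_apply, smul_eq_mul, Matrix.mulVec, dotProduct, krylov,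
        Matrix.of_apply]
      exact Finset.sum_congr rfl fun i _ => mul_comm _ _
    rw [this, hc0, Matrix.mulVec_mulVec, hL, Matrix.one_mulVec]
  have hpow : ∀ n : ℕ, A ^ n * h = h * A ^ n := fun n => (Commute.pow_left hc n).eq
  have hPpow : ∀ n : ℕ, A ^ n * P = P * A ^ n := fun n => by
    have : A ^ n = aeval A (X ^ n : (ZMod 11)[X]) := by simp
    rw [this, ← map_mul, ← map_mul, mul_comm]
  have hK : h * krylov A = P * krylov A := by
    ext i j
    have e : h.mulVec ((A ^ (j : ℕ)).mulVec e0) = P.mulVec ((A ^ (j : ℕ)).mulVec e0) := by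
      rw [Matrix.mulVec_mulVec, Matrix.mulVec_mulVec, ← hpow, ← hPpow, ← Matrix.mulVec_mulVec,
        ← Matrix.mulVec_mulVec, hP]
    exact congrFun e i
  have := congrArg (· * L) hK
  simpa [mul_assoc, hL] using this

theorem pow_eleven_scalar {A L h : M7} (hL : krylov A * L = 1) (hA : A ^ 11 = 1) (hc : A * h = h * A) :
    ∃ c : ZMod 11, h ^ 11 = c • (1 : M7) := by
  haveI : Fact (Nat.Prime 11) := ⟨by norm_num⟩
  obtain ⟨f, rfl⟩ := exists_poly_of_commute hL hc
  refine ⟨f.eval 1, ?_⟩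
  rw [← map_pow, ← ZMod.expand_card, expand_aeval, hA, ← map_one (algebraMap (ZMod 11) M7),
    aeval_algebraMap_apply, Algebra.algebraMap_eq_smul_one, map_one]
  rfl

theorem pow_eleven_cubed {A L h : M7} (hL : krylov A * L = 1) (hA : A ^ 7 = 1) (hc : A * h = h * A) :
    h ^ 1331 = h := by
  haveI : Fact (Nat.Prime 11) := ⟨by norm_num⟩
  obtain ⟨f, rfl⟩ := exists_poly_of_commute hL hc
  rw [← map_pow, show f ^ 1331 = expand (ZMod 11) 11 (expand (ZMod 11) 11 (expand (ZMod 11) 11 f)) by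
    rw [ZMod.expand_card, ZMod.expand_card, ZMod.expand_card, ← pow_mul, ← pow_mul]]
  rw [expand_aeval, expand_aeval, expand_aeval, ← pow_mul, ← pow_mul, show 11 * (11 * 11) = 7 * 190 + 1 by norm_num,
    pow_succ, pow_mul, hA, one_pow, one_mul]

theorem zmod_root : ∀ c : ZMod 11, (c ^ 3 = 1 → c = 1) ∧ (c ^ 7 = 1 → c = 1) ∧ c ^ 11 = c := by decide +kernel

end Cfsg.Lib.Janko
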