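import Cfsg.Agent.Janko.Order
import Cfsg.Prelude.Def_Sporadic

/-!
# The smallest Janko group has order 175560 and is simple

The normaliser of an element of order 19 fixes the line of the base point, so lies in the stabiliser
of order 114; the element centralises only its powers.
-/

set_option autoImplicit false

namespace Cfsg.Lib.Janko

open Cfsg Cfsg.Lib.PermCert

local instance fact19 : Fact (Nat.Prime 19) := ⟨by norm_num⟩

local instance fact11' : Fact (Nat.Prime 11) := ⟨by norm_num⟩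

/-- The index of the element of order 19. -/
abbrev xI : ℕ := nineteen

/-- The powers chain. -/
def powsOK : Bool :=
  (nineteenPows.length == 19) && (nineteenPows.getD 0 114 == 0) &&
    (List.range 19).all fun t =>
      mulP (stabM (nineteenPows.getD t 0)) (stabM xI) == stabM (nineteenPows.getD ((t + 1) % 19) 0)

/-- The centraliser check. -/
def commOK : Bool :=
  (List.range 114).all fun k =>
    okP (mulP (stabM k) (stabM xI)) && okP (mulP (stabM xI) (stabM k)) &&
      (!(mulP (stabM k) (stabM xI) == mulP (stabM xI) (stabM k)) || nineteenPows.contains k)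

theorem x_ok : powsOK = true ∧ commOK = true ∧ xI < 114 ∧ stabM xI ≠ oneP ∧ (stabE xI).2.1 = 1 ∧
    (nineteenPows.all fun k => Nat.blt k 114) = true := by decide +kernel

theorem fix_cert : matP fixInv * matP (stabM xI) + Matrix.vecMulVec (vecP fixVec) (vecP fixForm)
    = matP fixInv + 1 := by decide +kernel

theorem gen_pow : jankoMatrixX ^ 7 = 1 ∧ jankoMatrixY ^ 5 = 1 := by decide +kernel

theorem inJ_cos {i : ℕ} (hi : i < 1540) : InJ (matP (cosM i)) := cos_mem _ i hi rfl

theorem inJ_stab {k : ℕ} (hk : k < 114) : InJ (matP (stabM k)) := stab_mem _ k hk rfl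

/-- The elements of a pair of indices. -/
noncomputable def pairElt (p : Fin 1540 × Fin 114) : J :=
  ⟨((inJ_cos p.1.2).mul (inJ_stab p.2.2)).choose, ((inJ_cos p.1.2).mul (inJ_stab p.2.2)).choose_spec.1⟩

theorem pairElt_val (p : Fin 1540 × Fin 114) :
    ((pairElt p : GL (Fin 7) (ZMod 11)) : M7) = matP (cosM p.1) * matP (stabM p.2) :=
  ((inJ_cos p.1.2).mul (inJ_stab p.2.2)).choose_spec.2

theorem image_point {i k : ℕ} (hi : i < 1540) (hk : k < 114) :
    (matP (cosM i) * matP (stabM k)).mulVec (vecP fixVec) =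
      (((stabE k).2.1 : ZMod 11) * ((cosE i).2.1.2 : ZMod 11)) • vecP (cosE i).2.1.1 := by
  rw [← Matrix.mulVec_mulVec, (stab_facts hk).2.2.1, Matrix.mulVec_smul, (cos_facts hi).2.2.2.1, smul_smul]

theorem image_coeff {i k : ℕ} (hi : i < 1540) (hk : k < 114) :
    ((stabE k).2.1 : ZMod 11) * ((cosE i).2.1.2 : ZMod 11) ≠ 0 :=
  mul_ne_zero (natCast_ne_zero (stab_facts hk).2.1.1 (stab_facts hk).2.1.2)
    (natCast_ne_zero (cos_facts hi).2.2.1.1 (cos_facts hi).2.2.1.2)

theorem stabM_injective {k k' : ℕ} (hk : k < 114) (hk' : k' < 114) (h : matP (stabM k) = matP (stabM k')) :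
    k = k' :=
  List.inj_on_of_nodup_map stab_ok.2.2.2.2.2.2.2.2.2.2 (List.mem_range.mpr hk) (List.mem_range.mpr hk')
    (okP_ext (stab_facts hk).1 (stab_facts hk').1 h)

theorem pairElt_bijective : Function.Bijective pairElt := by
  refine ⟨fun p q h => ?_, fun g => ?_⟩
  · have h1 : matP (cosM p.1) * matP (stabM p.2) = matP (cosM q.1) * matP (stabM q.2) := by
      rw [← pairElt_val, ← pairElt_val, h]
    have h2 := congrArg (fun A : M7 => A.mulVec (vecP fixVec)) h1
    beta_reduce at h2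
    rw [image_point p.1.2 p.2.2, image_point q.1.2 q.2.2] at h2
    have hi : (p.1 : ℕ) = q.1 := point_injective p.1.2 q.1.2 (canon_unique (cos_facts p.1.2).2.1
      (cos_facts q.1.2).2.1 (image_coeff p.1.2 p.2.2) (image_coeff q.1.2 q.2.2) h2)
    obtain ⟨u, -, hu⟩ := inJ_cos p.1.2
    rw [← hi, ← hu] at h1
    exact Prod.ext (Fin.ext hi) (Fin.ext (stabM_injective p.2.2 q.2.2 (u.isUnit.mul_left_cancel h1)))
  · obtain ⟨i, hi, k, hk, e⟩ := decomp g.2
    exact ⟨(⟨i, hi⟩, ⟨k, hk⟩), Subtype.ext (Units.ext ((pairElt_val _).trans e.symm))⟩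

theorem card_J : Nat.card J = 175560 := by
  rw [← Nat.card_eq_of_bijective _ pairElt_bijective, Nat.card_prod, Nat.card_fin, Nat.card_fin]

/-- The matrix of an element. -/
abbrev mat (g : J) : M7 := ((g : GL (Fin 7) (ZMod 11)) : M7)

theorem mat_mul (g h : J) : mat (g * h) = mat g * mat h := rfl

theorem mat_inj {g h : J} (e : mat g = mat h) : g = h := Subtype.ext (Units.ext e)

/-- The element of order 19. -/
noncomputable def xJ : J := ⟨(inJ_stab x_ok.2.2.1).choose, (inJ_stab x_ok.2.2.1).choose_spec.1⟩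

theorem xJ_val : mat xJ = matP (stabM xI) := (inJ_stab x_ok.2.2.1).choose_spec.2

theorem pows_lt {t : ℕ} (ht : t < 19) : nineteenPows.getD t 0 < 114 := by
  have hl : nineteenPows.length = 19 := by
    have h := x_ok.1
    simp only [powsOK, Bool.and_eq_true, beq_iff_eq] at h
    exact h.1.1
  rw [List.getD_eq_getElem _ _ (by omega)]
  have := List.all_eq_true.mp x_ok.2.2.2.2.2 _ (List.getElem_mem (show t < nineteenPows.length by omega))
  exact Nat.le_of_ble_eq_true this

theorem xJ_pow : ∀ t : ℕ, t ≤ 19 → mat (xJ ^ t) = matP (stabM (nineteenPows.getD (t % 19) 0)) := by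
  have h := x_ok.1
  simp only [powsOK, Bool.and_eq_true, beq_iff_eq, List.all_eq_true, List.mem_range] at h
  obtain ⟨⟨hl, h0⟩, hstep⟩ := h
  intro t
  induction t with
  | zero =>
    intro _
    rw [Nat.zero_mod, List.getD_eq_getElem _ _ (by omega)]
    rw [List.getD_eq_getElem _ _ (by omega)] at h0
    rw [h0, stab_ok.2.2.2.2.2.2.1, gen_mat.1]
    rfl
  | succ t ih =>
    intro ht
    rw [pow_succ, mat_mul, ih (by omega), Nat.mod_eq_of_lt (show t < 19 by omega), ← hstep t (by omega), xJ_val,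
      mulP_spec (stab_facts (pows_lt (by omega))).1 (stab_facts x_ok.2.2.1).1]

theorem xJ_order : orderOf xJ = 19 := by
  have h0 : matP (stabM (nineteenPows.getD 0 0)) = 1 := by
    have := xJ_pow 0 (by norm_num)
    rw [pow_zero] at this
    exact this.symm
  refine orderOf_eq_prime (mat_inj ?_) fun h => x_ok.2.2.2.1 ?_
  · rw [xJ_pow 19 le_rfl, show 19 % 19 = 0 from rfl, h0]; rfl
  · refine okP_ext (stab_facts x_ok.2.2.1).1 stab_ok.2.2.2.2.2.2.2.1 ?_
    rw [← xJ_val, h, gen_mat.1]; rfl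

theorem fixed_line {w : Fin 7 → ZMod 11} (h : (mat xJ).mulVec w = w) :
    w = (vecP fixForm ⬝ᵥ w) • vecP fixVec := by
  rw [xJ_val] at h
  have h1 := congrArg (fun A : M7 => A.mulVec w) fix_cert
  simp only [Matrix.add_mulVec, ← Matrix.mulVec_mulVec, h, Matrix.one_mulVec, Matrix.vecMulVec_mulVec,
    add_right_inj] at h1
  exact h1.symm.trans (op_smul_eq_smul _ _)

theorem xJ_fix : ∀ t : ℕ, (mat (xJ ^ t)).mulVec (vecP fixVec) = vecP fixVec := by
  intro t
  induction t with
  | zero => rw [pow_zero]; exact Matrix.one_mulVec _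
  | succ t ih =>
    rw [pow_succ, mat_mul, ← Matrix.mulVec_mulVec, xJ_val, (stab_facts x_ok.2.2.1).2.2.1, x_ok.2.2.2.2.1,
      Nat.cast_one, one_smul, ih]

theorem finite_J : Finite J := Nat.finite_of_card_ne_zero (by rw [card_J]; norm_num)

theorem normalizer_stab {g : J} (hg : g⁻¹ * xJ * g ∈ Subgroup.zpowers xJ) :
    ∃ k < 114, mat g = matP (stabM k) := by
  haveI := finite_J
  obtain ⟨t, ht⟩ := mem_powers_iff_mem_zpowers.mpr hg
  simp only at ht
  have hx : (mat xJ).mulVec ((mat g).mulVec (vecP fixVec)) = (mat g).mulVec (vecP fixVec) := by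
    have e : xJ * g = g * xJ ^ t := by rw [ht]; group
    rw [Matrix.mulVec_mulVec, ← mat_mul, e, mat_mul, ← Matrix.mulVec_mulVec, xJ_fix]
  have hline := fixed_line hx
  obtain ⟨i, hi, k, hk, e⟩ := decomp g.2
  rw [show mat g = matP (cosM i) * matP (stabM k) from e, image_point hi hk] at hline
  have hr := stab_ok.2.2.2.2.1
  have hroot : vecP fixVec = ((cosE cosRoot).2.1.2 : ZMod 11) • vecP (cosE cosRoot).2.1.1 := by
    rw [← (cos_facts hr).2.2.2.1, stab_ok.2.2.2.2.2.1, gen_mat.1, Matrix.one_mulVec]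
  set d : ZMod 11 := vecP fixForm ⬝ᵥ (((stabE k).2.1 : ZMod 11) * ((cosE i).2.1.2 : ZMod 11)) • vecP (cosE i).2.1.1
    with hd
  rw [hroot, smul_smul] at hline
  have hd0 : d ≠ 0 := by
    intro h0
    rw [h0, zero_mul, zero_smul, smul_eq_zero] at hline
    rcases hline with h1 | h1
    · exact image_coeff hi hk h1
    · have hc := (cos_facts hi).2.1
      simp only [canonV, List.any_eq_true, List.mem_range, Bool.and_eq_true, beq_iff_eq] at hc
      obtain ⟨p, hp, hp1, -⟩ := hc
      have := congrFun h1 ⟨p, hp⟩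
      simp [vecP, hp1] at this
  have hir : i = cosRoot := point_injective hi hr (canon_unique (cos_facts hi).2.1 (cos_facts hr).2.1
    (image_coeff hi hk) (mul_ne_zero hd0 (natCast_ne_zero (cos_facts hr).2.2.1.1 (cos_facts hr).2.2.1.2)) hline)
  refine ⟨k, hk, ?_⟩
  rw [show mat g = matP (cosM i) * matP (stabM k) from e, hir, stab_ok.2.2.2.2.2.1, gen_mat.1, one_mul]

theorem centralizer_pow {g : J} (hg : Commute g xJ) : g ∈ Subgroup.zpowers xJ := by
  obtain ⟨k, hk, e⟩ := normalizer_stab (g := g) ⟨1, by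
    simp only [zpow_one]; rw [mul_assoc, ← hg.eq, inv_mul_cancel_left]⟩
  have h := List.all_eq_true.mp x_ok.2.1 k (List.mem_range.mpr hk)
  simp only [Bool.and_eq_true, Bool.or_eq_true, Bool.not_eq_true', beq_eq_false_iff_ne,
    List.contains_iff_mem] at h
  obtain ⟨⟨h1, h2⟩, h3⟩ := h
  have hmat : mulP (stabM k) (stabM xI) = mulP (stabM xI) (stabM k) := by
    refine okP_ext h1 h2 ?_
    rw [mulP_spec (stab_facts hk).1 (stab_facts x_ok.2.2.1).1, mulP_spec (stab_facts x_ok.2.2.1).1 (stab_facts hk).1,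
      ← e, ← xJ_val, ← mat_mul, ← mat_mul, hg.eq]
  have hmem := h3.resolve_left (not_not.mpr hmat)
  obtain ⟨t, ht, rfl⟩ := List.getElem_of_mem hmem
  have hl : nineteenPows.length = 19 := by
    have h := x_ok.1
    simp only [powsOK, Bool.and_eq_true, beq_iff_eq] at h
    exact h.1.1
  have : g = xJ ^ t := mat_inj (by
    rw [e, xJ_pow t (by omega), Nat.mod_eq_of_lt (by omega), List.getD_eq_getElem _ _ ht])
  rw [this]
  exact pow_mem (Subgroup.mem_zpowers xJ) t

theorem conj_into {y : J} (hy : orderOf y = 19) :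
    ∃ g : J, ∃ z ∈ Subgroup.zpowers y, g * z * g⁻¹ = xJ := by
  haveI := finite_J
  have hf : (Nat.card J).factorization 19 = 1 := by
    rw [card_J]
    refine le_antisymm ?_ (Nat.Prime.factorization_pos_of_dvd (by norm_num) (by norm_num) (by norm_num))
    by_contra hlt
    exact absurd ((pow_dvd_pow 19 (not_le.mp hlt)).trans (Nat.ordProj_dvd _ 19)) (by norm_num)
  let S := Sylow.ofCard (p := 19) (Subgroup.zpowers y) (by rw [Nat.card_zpowers, hy, hf, pow_one])
  let T := Sylow.ofCard (p := 19) (Subgroup.zpowers xJ) (by rw [Nat.card_zpowers, xJ_order, hf, pow_one])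
  obtain ⟨g, hg⟩ := MulAction.exists_smul_eq J S T
  have hx : xJ ∈ (T : Subgroup J) := Subgroup.mem_zpowers xJ
  rw [← hg, Sylow.coe_subgroup_smul] at hx
  obtain ⟨z, hz, he⟩ := hx
  exact ⟨g, z, hz, by rw [← he]; rfl⟩

/-- The point stabiliser inside the group. -/
def stabGrp : Subgroup J where
  carrier := {g | ∃ k < 114, mat g = matP (stabM k)}
  one_mem' := ⟨0, by norm_num, by rw [stab_ok.2.2.2.2.2.2.1, gen_mat.1]; rfl⟩
  mul_mem' := by
    rintro g h ⟨k, hk, e⟩ ⟨l, hl, e'⟩
    obtain ⟨m, hm, hmul⟩ := stab_closed hk _ l hl rfl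
    exact ⟨m, hm, by rw [mat_mul, e, e', hmul]⟩
  inv_mem' := by
    rintro g ⟨k, hk, e⟩
    haveI := finite_J
    have key : ∀ n : ℕ, ∃ m < 114, mat (g ^ n) = matP (stabM m) := by
      intro n
      induction n with
      | zero => exact ⟨0, by norm_num, by rw [pow_zero, stab_ok.2.2.2.2.2.2.1, gen_mat.1]; rfl⟩
      | succ n ih =>
        obtain ⟨m, hm, h⟩ := ih
        obtain ⟨m', hm', hmul⟩ := stab_closed hm _ k hk rfl
        exact ⟨m', hm', by rw [pow_succ, mat_mul, h, e, hmul]⟩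
    obtain ⟨m, hm, h⟩ := key (orderOf g - 1)
    have hinv : g⁻¹ = g ^ (orderOf g - 1) := inv_eq_of_mul_eq_one_right (by
      rw [← pow_succ', Nat.sub_add_cancel (orderOf_pos g), pow_orderOf_eq_one])
    exact ⟨m, hm, by rw [hinv]; exact h⟩

theorem card_stabGrp : Nat.card stabGrp ∣ 114 := by
  haveI := finite_J
  have h : Nat.card stabGrp = 114 := by
    rw [← Nat.card_fin 114]
    refine (Nat.card_eq_of_bijective (fun k : Fin 114 =>
      (⟨pairElt (⟨cosRoot, stab_ok.2.2.2.2.1⟩, k), k, k.2, by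
        show _ = _; rw [mat, pairElt_val]; show matP (cosM cosRoot) * matP (stabM k) = _; rw [stab_ok.2.2.2.2.2.1, gen_mat.1, one_mul]⟩ : stabGrp)) ⟨fun a b hab => ?_, fun g => ?_⟩).symm
    · exact (Prod.ext_iff.mp (pairElt_bijective.1 (congrArg Subtype.val hab))).2
    · obtain ⟨k, hk, e⟩ := g.2
      refine ⟨⟨k, hk⟩, Subtype.ext (mat_inj ?_)⟩
      rw [mat, pairElt_val]; show matP (cosM cosRoot) * matP (stabM k) = _; rw [stab_ok.2.2.2.2.2.1, gen_mat.1, one_mul, e]
  rw [h]

theorem normal_eq_top (N : Subgroup J) [N.Normal] (h : 19 ∣ Nat.card N) : N = ⊤ := by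
  haveI := finite_J
  obtain ⟨y, hy⟩ := exists_prime_orderOf_dvd_card' 19 h
  obtain ⟨g, z, hz, hgz⟩ := conj_into (y := (y : J)) (by rw [Subgroup.orderOf_coe, hy])
  have hxN : xJ ∈ N := hgz ▸ (inferInstance : N.Normal).conj_mem z ((Subgroup.zpowers_le).mpr y.2 hz) g
  have hf : (Nat.card J).factorization 19 = 1 := by
    rw [card_J]
    refine le_antisymm ?_ (Nat.Prime.factorization_pos_of_dvd (by norm_num) (by norm_num) (by norm_num))
    by_contra hlt
    exact absurd ((pow_dvd_pow 19 (not_le.mp hlt)).trans (Nat.ordProj_dvd _ 19)) (by norm_num)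
  let T := Sylow.ofCard (p := 19) (Subgroup.zpowers xJ) (by rw [Nat.card_zpowers, xJ_order, hf, pow_one])
  have htop := Sylow.normalizer_sup_eq_top' T ((Subgroup.zpowers_le).mpr hxN)
  have hle : stabGrp ⊔ N = ⊤ := by
    refine top_le_iff.mp (htop ▸ sup_le_sup_right (fun k hk => ?_) N)
    rw [show ((T : Set J)) = (Subgroup.zpowers xJ : Set J) from rfl] at hk
    have h2 := (Subgroup.mem_normalizer_iff.mp (inv_mem hk) xJ).mp (Subgroup.mem_zpowers xJ)
    rw [inv_inv] at h2
    exact normalizer_stab h2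
  have hkill : ∀ (s : J) (n : ℕ), s ^ n = 1 → Nat.Coprime n 114 → s ∈ N := by
    intro s n hs hn
    obtain ⟨a, ha, b, hb, he⟩ : ∃ a ∈ stabGrp, ∃ b ∈ N, a * b = s := by
      have : s ∈ ((stabGrp ⊔ N : Subgroup J) : Set J) := hle ▸ Subgroup.mem_top s
      rw [Subgroup.mul_normal stabGrp N] at this
      exact Set.mem_mul.mp this
    rw [← QuotientGroup.eq_one_iff]
    have h1 : (QuotientGroup.mk s : J ⧸ N) = QuotientGroup.mk a := by
      rw [← he, QuotientGroup.mk_mul, (QuotientGroup.eq_one_iff b).mpr hb, mul_one]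
    have d1 : orderOf (QuotientGroup.mk s : J ⧸ N) ∣ n := orderOf_dvd_of_pow_eq_one (by
      rw [← QuotientGroup.mk_pow, hs, QuotientGroup.mk_one])
    have d2 : orderOf (QuotientGroup.mk s : J ⧸ N) ∣ 114 := by
      rw [h1]
      exact ((orderOf_map_dvd (QuotientGroup.mk' N) a).trans (Subgroup.orderOf_dvd_natCard stabGrp ha)).trans
        card_stabGrp
    exact orderOf_eq_one_iff.mp (Nat.eq_one_of_dvd_coprimes hn d1 d2)
  rw [Subgroup.eq_top_iff']
  rintro ⟨s, hs⟩
  suffices J ≤ N.map J.subtype by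
    obtain ⟨u, hu, e⟩ := this hs
    exact (Subtype.ext e : u = ⟨s, hs⟩) ▸ hu
  refine (Subgroup.closure_le _).mpr ?_
  rintro u (rfl | hu)
  · exact ⟨⟨Spor.jankoX, Subgroup.subset_closure (Or.inl rfl)⟩, hkill _ 7 (mat_inj (by
      show ((Spor.jankoX ^ 7 : GL (Fin 7) (ZMod 11)) : M7) = 1
      rw [Units.val_pow_eq_pow_val]; exact gen_pow.1)) (by norm_num), rfl⟩
  · rw [Set.mem_singleton_iff] at hu; subst hu
    exact ⟨⟨Spor.jankoY, Subgroup.subset_closure (Or.inr rfl)⟩, hkill _ 5 (mat_inj (by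
      show ((Spor.jankoY ^ 5 : GL (Fin 7) (ZMod 11)) : M7) = 1
      rw [Units.val_pow_eq_pow_val]; exact gen_pow.2)) (by norm_num), rfl⟩

theorem small_prime_powers : ∀ q ∈ ([(2, 3), (3, 1), (5, 1), (7, 1), (11, 1)] : List (ℕ × ℕ)),
    ∀ d ≤ q.2, q.1 ^ d % 19 = 1 → d = 0 := by decide +kernel

theorem normal_eq_bot (N : Subgroup J) [N.Normal] (h : ¬ 19 ∣ Nat.card N) : N = ⊥ := by
  classical
  haveI := finite_J
  by_contra hne
  obtain ⟨p, hp, hpN⟩ := Nat.exists_prime_and_dvd (fun e => hne (Subgroup.card_eq_one.mp e))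
  haveI := Fact.mk hp
  set k := (Nat.card N).factorization p with hk
  have hk0 : k ≠ 0 := (hp.factorization_pos_of_dvd Nat.card_pos.ne' hpN).ne'
  have hdvd : p ^ k ∣ 175560 := card_J ▸ (Nat.ordProj_dvd _ p).trans N.card_subgroup_dvd_card
  let P : Sylow p N := default
  set Q : Subgroup J := (P : Subgroup N).map N.subtype with hQ
  have hQN : Q ≤ N := by rintro _ ⟨z, -, rfl⟩; exact z.2
  have hQc : Nat.card Q = p ^ k := by
    rw [hQ, Subgroup.card_map_of_injective N.subtype_injective, P.card_eq_multiplicity]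
  set M := Subgroup.normalizer (Q : Set J)
  have hMN : M ⊔ N = ⊤ := Sylow.normalizer_sup_eq_top P
  have hsurj : Function.Surjective ((QuotientGroup.mk' N).comp M.subtype) := by
    rw [← MonoidHom.range_eq_top, MonoidHom.range_comp, Subgroup.range_subtype]
    refine top_le_iff.mp ?_
    rw [← Subgroup.map_top_of_surjective (QuotientGroup.mk' N) (QuotientGroup.mk'_surjective N), ← hMN,
      Subgroup.map_sup]
    simp
  have hqM : 19 ∣ Nat.card M := by
    refine dvd_trans ?_ (Subgroup.card_dvd_of_surjective _ hsurj)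
    have h1 := Subgroup.card_eq_card_quotient_mul_card_subgroup N
    rw [card_J] at h1
    exact (((by norm_num : Nat.Prime 19)).dvd_mul.mp (h1 ▸ (by norm_num : 19 ∣ 175560))).resolve_right h
  obtain ⟨y, hy⟩ := exists_prime_orderOf_dvd_card' 19 hqM
  obtain ⟨g, z, hz, hgz⟩ := conj_into (y := (y : J)) (by rw [Subgroup.orderOf_coe, hy])
  have hzM : z ∈ M := (Subgroup.zpowers_le).mpr y.2 hz
  set Q' : Subgroup J := Q.map (MulAut.conj g).toMonoidHom with hQ'
  have hxQ : xJ ∈ Subgroup.normalizer (Q' : Set J) := by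
    refine Subgroup.mem_normalizer_iff.mpr fun w => ?_
    have key : ∀ w, w ∈ Q' ↔ g⁻¹ * w * g ∈ Q := fun w => by
      rw [hQ', Subgroup.mem_map]
      constructor
      · rintro ⟨v, hv, rfl⟩
        simpa [MulAut.conj_apply, mul_assoc] using hv
      · exact fun hw => ⟨_, hw, by simp [MulAut.conj_apply, mul_assoc]⟩
    rw [key, key, Subgroup.mem_normalizer_iff.mp hzM, ← hgz]
    group
  have hQ'N : Q' ≤ N := by
    rintro _ ⟨w, hw, rfl⟩
    exact (inferInstance : N.Normal).conj_mem w (hQN hw) g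
  have hX : IsPGroup 19 (Subgroup.zpowers xJ) :=
    IsPGroup.of_card (n := 1) (by rw [Nat.card_zpowers, xJ_order, pow_one])
  let act := (Subgroup.normalizerMonoidHom Q').comp (Subgroup.inclusion (Subgroup.zpowers_le.mpr hxQ))
  letI : MulAction (Subgroup.zpowers xJ) Q' := MulAction.compHom Q' act
  have hfix : Nat.card (MulAction.fixedPoints (Subgroup.zpowers xJ) Q') = 1 := by
    rw [Nat.card_eq_one_iff_exists]
    refine ⟨⟨1, fun s => map_one (act s)⟩, fun ⟨w, hw⟩ => Subtype.ext (Subtype.ext ?_)⟩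
    have hc : xJ * (w : J) * xJ⁻¹ = w := congrArg Subtype.val (hw ⟨xJ, Subgroup.mem_zpowers xJ⟩)
    have hw1 : (w : J) ∈ Subgroup.zpowers xJ := centralizer_pow (mul_inv_eq_iff_eq_mul.mp hc).symm
    have hd : orderOf (w : J) ∣ 19 := by
      have := Subgroup.orderOf_dvd_natCard (Subgroup.zpowers xJ) hw1
      rwa [Nat.card_zpowers, xJ_order] at this
    rcases (Nat.dvd_prime (by norm_num)).mp hd with h1 | h1
    · simpa using orderOf_eq_one_iff.mp h1
    · exact absurd (h1 ▸ Subgroup.orderOf_dvd_natCard N (hQ'N w.2)) h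
  have h1 := hX.card_modEq_card_fixedPoints Q'
  rw [hfix, hQ', Subgroup.card_map_of_injective (MulEquiv.injective _), hQc] at h1
  have h19 : p ^ k % 19 = 1 := h1
  have hpd : p ∣ 2 ^ 3 * 3 * 5 * 7 * 11 * 19 := (dvd_pow_self p hk0).trans (hdvd.trans (by norm_num))
  simp only [hp.dvd_mul] at hpd
  have heq : ∀ {r : ℕ}, r.Prime → p ∣ r → p = r := fun hr hd => (Nat.prime_dvd_prime_iff_eq hp hr).mp hd
  have hbound : ∀ e : ℕ, ¬ p ^ (e + 1) ∣ 175560 → k ≤ e := fun e he => by
    by_contra hlt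
    exact he ((pow_dvd_pow p (not_le.mp hlt)).trans hdvd)
  rcases hpd with ((((h2 | h3) | h5) | h7) | h11) | h19'
  · obtain rfl := heq Nat.prime_two (hp.dvd_of_dvd_pow h2)
    exact hk0 (small_prime_powers (2, 3) (by simp) k (hbound 3 (by norm_num)) h19)
  · obtain rfl := heq Nat.prime_three h3
    exact hk0 (small_prime_powers (3, 1) (by simp) k (hbound 1 (by norm_num)) h19)
  · obtain rfl := heq Nat.prime_five h5
    exact hk0 (small_prime_powers (5, 1) (by simp) k (hbound 1 (by norm_num)) h19)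
  · obtain rfl := heq (by norm_num) h7
    exact hk0 (small_prime_powers (7, 1) (by simp) k (hbound 1 (by norm_num)) h19)
  · obtain rfl := heq (by norm_num) h11
    exact hk0 (small_prime_powers (11, 1) (by simp) k (hbound 1 (by norm_num)) h19)
  · obtain rfl := heq (by norm_num) h19'
    exact h hpN

theorem isJ1 : IsJ1 J := by
  haveI := finite_J
  haveI : Nontrivial J := ⟨⟨xJ, 1, fun e => by have := xJ_order; rw [e, orderOf_one] at this; norm_num at this⟩⟩
  refine ⟨⟨fun N hN => ?_⟩, card_J⟩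
  haveI := hN
  by_cases h : 19 ∣ Nat.card N
  · exact Or.inr (normal_eq_top N h)
  · exact Or.inl (normal_eq_bot N h)

end Cfsg.Lib.Janko
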